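import Groth.Prelude.Def_CohCmp
import Mathlib

/-!
# `CohPull.resLE` in Ext-calculus form: naturality in the module and compatibility with the
connecting homomorphisms (helper1)
-/

set_option autoImplicit false
universe u
open CategoryTheory CategoryTheory.Limits AlgebraicGeometry TopologicalSpace Opposite

namespace Groth.Agent.Lib.Helper1.QcqsLoc

variable {X : Scheme.{u}} {U U' : X.Opens} (h : U' ≤ U)

omit h in
lemma le_id_preimage (h : U' ≤ U) : U' ≤ (𝟙 X) ⁻¹ᵁ U := by rwa [Scheme.Hom.id_preimage]

/-- the inclusion `U' ⟶ U` as a restriction of the identity -/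
noncomputable abbrev jj : (U' : Scheme.{u}) ⟶ (U : Scheme.{u}) :=
  Scheme.Hom.resLE (𝟙 X) U U' (le_id_preimage h)

/-- the module-level coefficient map `j^*(F|_U) ⟶ F|_{U'}` -/
noncomputable def beta (F : X.Modules) :
    (Scheme.Modules.pullback (jj h)).obj (F.restrict U.ι) ⟶ F.restrict U'.ι :=
  (CohPull.pullOnIso (𝟙 X) U U' (le_id_preimage h) F).hom ≫
    (Scheme.Modules.restrictFunctor U'.ι).map ((Scheme.Modules.pullbackId X).hom.app F)

/-- the coefficient maps as a natural transformation -/
noncomputable def betaNat :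
    Scheme.Modules.restrictFunctor U.ι ⋙ Scheme.Modules.pullback (jj h) ⟶
      Scheme.Modules.restrictFunctor U'.ι :=
  Functor.whiskerRight (Scheme.Modules.restrictFunctorIsoPullback U.ι).hom _ ≫
    (Scheme.Modules.pullbackComp (jj h) U.ι).hom ≫
    (Scheme.Modules.pullbackCongr (Scheme.Hom.resLE_comp_ι (𝟙 X) (le_id_preimage h))).hom ≫
    (Scheme.Modules.pullbackComp U'.ι (𝟙 X)).inv ≫
    Functor.whiskerLeft _ (Scheme.Modules.restrictFunctorIsoPullback U'.ι).inv ≫
    Functor.whiskerRight (Scheme.Modules.pullbackId X).hom _ ≫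
    (Functor.leftUnitor _).hom

lemma betaNat_app (F : X.Modules) : (betaNat h).app F = beta h F := by
  simp [betaNat, beta, CohPull.pullOnIso]

lemma beta_naturality {F G : X.Modules} (ψ : F ⟶ G) :
    (Scheme.Modules.pullback (jj h)).map ((Scheme.Modules.restrictFunctor U.ι).map ψ) ≫ beta h G =
      beta h F ≫ (Scheme.Modules.restrictFunctor U'.ι).map ψ := by
  rw [← betaNat_app, ← betaNat_app]
  exact (betaNat h).naturality ψ

section theta

variable {Y Z : Scheme.{u}} (g : Y ⟶ Z)

/-- naturality of `CohPull.theta` in the module -/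
lemma theta_naturality {M N : Z.Modules} (μ : M ⟶ N) :
    (CohPull.inv g.base).map ((SheafOfModules.toSheaf Z.ringCatSheaf).map μ) ≫ CohPull.theta g N =
      CohPull.theta g M ≫
        (SheafOfModules.toSheaf Y.ringCatSheaf).map ((Scheme.Modules.pullback g).map μ) := by
  unfold CohPull.theta
  have hnat := (Scheme.Modules.pullbackPushforwardAdjunction g).unit.naturality μ
  have h1 : (SheafOfModules.toSheaf Z.ringCatSheaf).map μ ≫
      (SheafOfModules.toSheaf Z.ringCatSheaf).map
        ((Scheme.Modules.pullbackPushforwardAdjunction g).unit.app N) =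
      (SheafOfModules.toSheaf Z.ringCatSheaf).map
        ((Scheme.Modules.pullbackPushforwardAdjunction g).unit.app M) ≫
      (CohTop.push g.base).map ((SheafOfModules.toSheaf Y.ringCatSheaf).map
        ((Scheme.Modules.pullback g).map μ)) := by
    refine ((SheafOfModules.toSheaf Z.ringCatSheaf).map_comp _ _).symm.trans ?_
    refine (congrArg (fun k => (SheafOfModules.toSheaf Z.ringCatSheaf).map k) hnat).trans ?_
    exact (SheafOfModules.toSheaf Z.ringCatSheaf).map_comp _ _
  refine ((CohPull.invPushAdj g.base).homEquiv_naturality_left_symm _ _).symm.trans ?_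
  refine (congrArg _ h1).trans ?_
  exact (CohPull.invPushAdj g.base).homEquiv_naturality_right_symm _ _

end theta

/-- the coefficient map on abelian sheaves `j⁻¹(F|_U) ⟶ F|_{U'}` -/
noncomputable def cc (F : X.Modules) :
    (CohPull.inv (jj h).base).obj ((CohCmp.toAbOn X U).obj F) ⟶ (CohCmp.toAbOn X U').obj F :=
  CohPull.theta (jj h) (F.restrict U.ι) ≫
    (SheafOfModules.toSheaf (U' : Scheme.{u}).ringCatSheaf).map (beta h F)

lemma cc_naturality {F G : X.Modules} (ψ : F ⟶ G) :
    (CohPull.inv (jj h).base).map ((CohCmp.toAbOn X U).map ψ) ≫ cc h G =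
      cc h F ≫ (CohCmp.toAbOn X U').map ψ := by
  unfold cc
  have h1 := theta_naturality (jj h) ((Scheme.Modules.restrictFunctor U.ι).map ψ)
  have h2 : (SheafOfModules.toSheaf (U' : Scheme.{u}).ringCatSheaf).map
        ((Scheme.Modules.pullback (jj h)).map ((Scheme.Modules.restrictFunctor U.ι).map ψ)) ≫
      (SheafOfModules.toSheaf (U' : Scheme.{u}).ringCatSheaf).map (beta h G) =
      (SheafOfModules.toSheaf (U' : Scheme.{u}).ringCatSheaf).map (beta h F) ≫
        (SheafOfModules.toSheaf (U' : Scheme.{u}).ringCatSheaf).map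
          ((Scheme.Modules.restrictFunctor U'.ι).map ψ) := by
    refine ((SheafOfModules.toSheaf (U' : Scheme.{u}).ringCatSheaf).map_comp _ _).symm.trans ?_
    refine (congrArg (fun k => (SheafOfModules.toSheaf (U' : Scheme.{u}).ringCatSheaf).map k)
      (beta_naturality h ψ)).trans ?_
    exact (SheafOfModules.toSheaf (U' : Scheme.{u}).ringCatSheaf).map_comp _ _
  refine (Category.assoc _ _ _).symm.trans ?_
  refine (congrArg (fun k => k ≫ (SheafOfModules.toSheaf (U' : Scheme.{u}).ringCatSheaf).map
    (beta h G)) h1).trans ?_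
  refine (Category.assoc _ _ _).trans ?_
  refine (congrArg (fun k => CohPull.theta (jj h) (F.restrict U.ι) ≫ k) h2).trans ?_
  exact (Category.assoc _ _ _).symm

end Groth.Agent.Lib.Helper1.QcqsLoc
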