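import Groth.Agent.Lib.Helper1.CohLoc.IsLoc

/-!
# Algebra of elementwise localizations (helper1)

* `IsLoc.of_equiv`, `IsLoc.prod`, `isLoc_of_subsingleton`;
* `isLoc_five`: the five lemma for `IsLoc` (two exact rows, compatible endomorphisms);
* `exists_glue`, `eq_zero_of_cover`: gluing of sections of a "tilde-like" family of modules.
-/

set_option autoImplicit false

namespace Groth.Agent.Lib.Helper1.QcqsLoc

open Groth.Agent.Lib.Helper1.CohLoc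

section Basic

variable {A B : Type*} [AddCommGroup A] [AddCommGroup B]

theorem isLoc_of_subsingleton [Subsingleton A] [Subsingleton B] (φA : A →+ A) (φB : B →+ B)
    (ρ : A →+ B) : IsLoc φA φB ρ :=
  ⟨fun _ => Subsingleton.elim _ _,
    ⟨fun _ _ _ => Subsingleton.elim _ _, fun b => ⟨b, Subsingleton.elim _ _⟩⟩,
    fun _ => ⟨0, 0, Subsingleton.elim _ _⟩, fun _ _ => ⟨0, Subsingleton.elim _ _⟩⟩

/-- Transport of `IsLoc` along additive equivalences commuting with all the maps. -/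
theorem IsLoc.of_equiv {A' B' : Type*} [AddCommGroup A'] [AddCommGroup B']
    {φA : A →+ A} {φB : B →+ B} {ρ : A →+ B} {φA' : A' →+ A'} {φB' : B' →+ B'} {ρ' : A' →+ B'}
    (h : IsLoc φA' φB' ρ') (eA : A ≃+ A') (eB : B ≃+ B')
    (hφA : ∀ a, eA (φA a) = φA' (eA a)) (hφB : ∀ b, eB (φB b) = φB' (eB b))
    (hρ : ∀ a, eB (ρ a) = ρ' (eA a)) : IsLoc φA φB ρ := by
  have hiterA : ∀ (n : ℕ) (a : A), eA (φA^[n] a) = φA'^[n] (eA a) := fun n a =>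
    (Function.Semiconj.iterate_right (f := eA) (ga := φA) (gb := φA') hφA n).eq a
  have hiterB : ∀ (n : ℕ) (b : B), eB (φB^[n] b) = φB'^[n] (eB b) := fun n b =>
    (Function.Semiconj.iterate_right (f := eB) (ga := φB) (gb := φB') hφB n).eq b
  refine ⟨fun a => eB.injective ?_, ⟨fun b b' hb => ?_, fun b => ?_⟩, fun b => ?_, fun a ha => ?_⟩
  · rw [hρ, hφA, h.comm, hφB, hρ]
  · apply eB.injective
    apply h.bij.1
    rw [← hφB, ← hφB, hb]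
  · obtain ⟨c, hc⟩ := h.bij.2 (eB b)
    refine ⟨eB.symm c, eB.injective ?_⟩
    rw [hφB, AddEquiv.apply_symm_apply, hc]
  · obtain ⟨n, a', ha'⟩ := h.surj (eB b)
    refine ⟨n, eA.symm a', eB.injective ?_⟩
    rw [hρ, AddEquiv.apply_symm_apply, ha', hiterB]
  · have : ρ' (eA a) = 0 := by rw [← hρ, ha, map_zero]
    obtain ⟨n, hn⟩ := h.ker _ this
    refine ⟨n, eA.injective ?_⟩
    rw [hiterA, hn, map_zero]

/-- Transport of `IsLoc` along additive equivalences (in the other direction). -/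
theorem IsLoc.of_equiv_symm {A' B' : Type*} [AddCommGroup A'] [AddCommGroup B']
    {φA : A →+ A} {φB : B →+ B} {ρ : A →+ B} {φA' : A' →+ A'} {φB' : B' →+ B'} {ρ' : A' →+ B'}
    (h : IsLoc φA' φB' ρ') (eA : A' ≃+ A) (eB : B' ≃+ B)
    (hφA : ∀ a, eA (φA' a) = φA (eA a)) (hφB : ∀ b, eB (φB' b) = φB (eB b))
    (hρ : ∀ a, eB (ρ' a) = ρ (eA a)) : IsLoc φA φB ρ := by
  refine IsLoc.of_equiv h eA.symm eB.symm (fun a => ?_) (fun b => ?_) (fun a => ?_)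
  · rw [AddEquiv.symm_apply_eq, hφA, AddEquiv.apply_symm_apply]
  · rw [AddEquiv.symm_apply_eq, hφB, AddEquiv.apply_symm_apply]
  · rw [AddEquiv.symm_apply_eq, hρ, AddEquiv.apply_symm_apply]

theorem IsLoc.prod {A₁ B₁ A₂ B₂ : Type*} [AddCommGroup A₁] [AddCommGroup B₁] [AddCommGroup A₂]
    [AddCommGroup B₂] {φ₁ : A₁ →+ A₁} {ψ₁ : B₁ →+ B₁} {ρ₁ : A₁ →+ B₁} {φ₂ : A₂ →+ A₂}
    {ψ₂ : B₂ →+ B₂} {ρ₂ : A₂ →+ B₂} (h₁ : IsLoc φ₁ ψ₁ ρ₁) (h₂ : IsLoc φ₂ ψ₂ ρ₂) :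
    IsLoc (φ₁.prodMap φ₂) (ψ₁.prodMap ψ₂) (ρ₁.prodMap ρ₂) := by
  have hitφ : ∀ (n : ℕ) (x : A₁ × A₂), (⇑(φ₁.prodMap φ₂))^[n] x = (φ₁^[n] x.1, φ₂^[n] x.2) := by
    intro n x
    rw [AddMonoidHom.coe_prodMap, Prod.map_iterate]
    rfl
  have hitψ : ∀ (n : ℕ) (x : B₁ × B₂), (⇑(ψ₁.prodMap ψ₂))^[n] x = (ψ₁^[n] x.1, ψ₂^[n] x.2) := by
    intro n x
    rw [AddMonoidHom.coe_prodMap, Prod.map_iterate]
    rfl
  refine ⟨fun a => ?_, ?_, fun b => ?_, fun a ha => ?_⟩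
  · ext
    · exact h₁.comm a.1
    · exact h₂.comm a.2
  · rw [AddMonoidHom.coe_prodMap]
    exact Function.Bijective.prodMap h₁.bij h₂.bij
  · obtain ⟨n₁, a₁, ha₁⟩ := h₁.surj b.1
    obtain ⟨n₂, a₂, ha₂⟩ := h₂.surj b.2
    refine ⟨n₁ + n₂, (φ₁^[n₂] a₁, φ₂^[n₁] a₂), ?_⟩
    rw [hitψ]
    ext
    · change ρ₁ (φ₁^[n₂] a₁) = _
      rw [h₁.comm_iter, ha₁, ← Function.iterate_add_apply, add_comm]
    · change ρ₂ (φ₂^[n₁] a₂) = _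
      rw [h₂.comm_iter, ha₂, ← Function.iterate_add_apply]
  · have ha1 : ρ₁ a.1 = 0 := congrArg Prod.fst ha
    have ha2 : ρ₂ a.2 = 0 := congrArg Prod.snd ha
    obtain ⟨n₁, hn₁⟩ := h₁.ker _ ha1
    obtain ⟨n₂, hn₂⟩ := h₂.ker _ ha2
    refine ⟨n₁ + n₂, ?_⟩
    rw [hitφ]
    ext
    · change φ₁^[n₁ + n₂] a.1 = 0
      rw [add_comm, Function.iterate_add_apply, hn₁, iterate_map_zero]
    · change φ₂^[n₁ + n₂] a.2 = 0
      rw [Function.iterate_add_apply, hn₂, iterate_map_zero]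

end Basic

section Five

variable {A₁ A₂ A₃ A₄ A₅ B₁ B₂ B₃ B₄ B₅ : Type*}
  [AddCommGroup A₁] [AddCommGroup A₂] [AddCommGroup A₃] [AddCommGroup A₄] [AddCommGroup A₅]
  [AddCommGroup B₁] [AddCommGroup B₂] [AddCommGroup B₃] [AddCommGroup B₄] [AddCommGroup B₅]
  (a₁ : A₁ →+ A₂) (a₂ : A₂ →+ A₃) (a₃ : A₃ →+ A₄) (a₄ : A₄ →+ A₅)
  (b₁ : B₁ →+ B₂) (b₂ : B₂ →+ B₃) (b₃ : B₃ →+ B₄) (b₄ : B₄ →+ B₅)
  (φ₁ : A₁ →+ A₁) (φ₂ : A₂ →+ A₂) (φ₃ : A₃ →+ A₃) (φ₄ : A₄ →+ A₄) (φ₅ : A₅ →+ A₅)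
  (ψ₁ : B₁ →+ B₁) (ψ₂ : B₂ →+ B₂) (ψ₃ : B₃ →+ B₃) (ψ₄ : B₄ →+ B₄) (ψ₅ : B₅ →+ B₅)
  (ρ₁ : A₁ →+ B₁) (ρ₂ : A₂ →+ B₂) (ρ₃ : A₃ →+ B₃) (ρ₄ : A₄ →+ B₄) (ρ₅ : A₅ →+ B₅)

/-- The five lemma for endomorphisms of an exact sequence (bijectivity of the middle one). -/
theorem bijective_five
    (zb₁₂ : ∀ x, b₂ (b₁ x) = 0) (zb₃₄ : ∀ x, b₄ (b₃ x) = 0)
    (eb₂ : ∀ x, b₂ x = 0 → ∃ y, b₁ y = x) (eb₃ : ∀ x, b₃ x = 0 → ∃ y, b₂ y = x)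
    (eb₄ : ∀ x, b₄ x = 0 → ∃ y, b₃ y = x)
    (cb₁ : ∀ x, b₁ (ψ₁ x) = ψ₂ (b₁ x)) (cb₂ : ∀ x, b₂ (ψ₂ x) = ψ₃ (b₂ x))
    (cb₃ : ∀ x, b₃ (ψ₃ x) = ψ₄ (b₃ x)) (cb₄ : ∀ x, b₄ (ψ₄ x) = ψ₅ (b₄ x))
    (h₁ : Function.Surjective ψ₁) (h₂ : Function.Bijective ψ₂) (h₄ : Function.Bijective ψ₄)
    (h₅ : Function.Injective ψ₅) : Function.Bijective ψ₃ := by
  constructor
  · rw [injective_iff_map_eq_zero]
    intro x hx
    have h1 : b₃ x = 0 := by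
      apply h₄.1
      rw [← cb₃, hx, map_zero, map_zero]
    obtain ⟨y, rfl⟩ := eb₃ x h1
    have h2 : b₂ (ψ₂ y) = 0 := by rw [cb₂, hx]
    obtain ⟨z, hz⟩ := eb₂ _ h2
    obtain ⟨z', rfl⟩ := h₁ z
    have h3 : y = b₁ z' := by
      apply h₂.1
      rw [← hz, cb₁]
    rw [h3, zb₁₂]
  · intro x
    obtain ⟨w, hw⟩ := h₄.2 (b₃ x)
    have h1 : b₄ w = 0 := by
      apply h₅
      rw [← cb₄, hw, zb₃₄, map_zero]
    obtain ⟨v, rfl⟩ := eb₄ w h1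
    have h2 : b₃ (x - ψ₃ v) = 0 := by rw [map_sub, cb₃, hw, sub_self]
    obtain ⟨u, hu⟩ := eb₃ _ h2
    obtain ⟨u', rfl⟩ := h₂.2 u
    refine ⟨v + b₂ u', ?_⟩
    rw [map_add, ← cb₂, hu]
    abel

include a₁ a₂ a₃ a₄ b₁ b₂ b₃ b₄ φ₁ φ₂ φ₄ φ₅ ψ₁ ψ₂ ψ₄ ψ₅ ρ₁ ρ₂ ρ₄ ρ₅ in
/-- **The five lemma for elementwise localizations.** -/
theorem isLoc_five
    (za₁₂ : ∀ x, a₂ (a₁ x) = 0)
    (ea₃ : ∀ x, a₃ x = 0 → ∃ y, a₂ y = x) (ea₄ : ∀ x, a₄ x = 0 → ∃ y, a₃ y = x)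
    (zb₁₂ : ∀ x, b₂ (b₁ x) = 0) (zb₃₄ : ∀ x, b₄ (b₃ x) = 0)
    (eb₂ : ∀ x, b₂ x = 0 → ∃ y, b₁ y = x) (eb₃ : ∀ x, b₃ x = 0 → ∃ y, b₂ y = x)
    (eb₄ : ∀ x, b₄ x = 0 → ∃ y, b₃ y = x)
    (ca₁ : ∀ x, a₁ (φ₁ x) = φ₂ (a₁ x)) (ca₂ : ∀ x, a₂ (φ₂ x) = φ₃ (a₂ x))
    (ca₃ : ∀ x, a₃ (φ₃ x) = φ₄ (a₃ x)) (ca₄ : ∀ x, a₄ (φ₄ x) = φ₅ (a₄ x))
    (cb₁ : ∀ x, b₁ (ψ₁ x) = ψ₂ (b₁ x)) (cb₂ : ∀ x, b₂ (ψ₂ x) = ψ₃ (b₂ x))
    (cb₃ : ∀ x, b₃ (ψ₃ x) = ψ₄ (b₃ x)) (cb₄ : ∀ x, b₄ (ψ₄ x) = ψ₅ (b₄ x))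
    (s₁ : ∀ x, ρ₂ (a₁ x) = b₁ (ρ₁ x)) (s₂ : ∀ x, ρ₃ (a₂ x) = b₂ (ρ₂ x))
    (s₃ : ∀ x, ρ₄ (a₃ x) = b₃ (ρ₃ x)) (s₄ : ∀ x, ρ₅ (a₄ x) = b₄ (ρ₄ x))
    (h₁ : IsLoc φ₁ ψ₁ ρ₁) (h₂ : IsLoc φ₂ ψ₂ ρ₂) (h₄ : IsLoc φ₄ ψ₄ ρ₄) (h₅ : IsLoc φ₅ ψ₅ ρ₅)
    (c₃ : ∀ x, ρ₃ (φ₃ x) = ψ₃ (ρ₃ x)) : IsLoc φ₃ ψ₃ ρ₃ := by
  -- iterates
  have ita₂ : ∀ (n : ℕ) x, a₂ (φ₂^[n] x) = φ₃^[n] (a₂ x) := fun n x =>
    (Function.Semiconj.iterate_right (f := a₂) (ga := φ₂) (gb := φ₃) ca₂ n).eq x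
  have ita₁ : ∀ (n : ℕ) x, a₁ (φ₁^[n] x) = φ₂^[n] (a₁ x) := fun n x =>
    (Function.Semiconj.iterate_right (f := a₁) (ga := φ₁) (gb := φ₂) ca₁ n).eq x
  have ita₃ : ∀ (n : ℕ) x, a₃ (φ₃^[n] x) = φ₄^[n] (a₃ x) := fun n x =>
    (Function.Semiconj.iterate_right (f := a₃) (ga := φ₃) (gb := φ₄) ca₃ n).eq x
  have ita₄ : ∀ (n : ℕ) x, a₄ (φ₄^[n] x) = φ₅^[n] (a₄ x) := fun n x =>
    (Function.Semiconj.iterate_right (f := a₄) (ga := φ₄) (gb := φ₅) ca₄ n).eq x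
  have itb₁ : ∀ (n : ℕ) x, b₁ (ψ₁^[n] x) = ψ₂^[n] (b₁ x) := fun n x =>
    (Function.Semiconj.iterate_right (f := b₁) (ga := ψ₁) (gb := ψ₂) cb₁ n).eq x
  have itb₂ : ∀ (n : ℕ) x, b₂ (ψ₂^[n] x) = ψ₃^[n] (b₂ x) := fun n x =>
    (Function.Semiconj.iterate_right (f := b₂) (ga := ψ₂) (gb := ψ₃) cb₂ n).eq x
  have itb₃ : ∀ (n : ℕ) x, b₃ (ψ₃^[n] x) = ψ₄^[n] (b₃ x) := fun n x =>
    (Function.Semiconj.iterate_right (f := b₃) (ga := ψ₃) (gb := ψ₄) cb₃ n).eq x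
  have itb₄ : ∀ (n : ℕ) x, b₄ (ψ₄^[n] x) = ψ₅^[n] (b₄ x) := fun n x =>
    (Function.Semiconj.iterate_right (f := b₄) (ga := ψ₄) (gb := ψ₅) cb₄ n).eq x
  have itρ₃ : ∀ (n : ℕ) x, ρ₃ (φ₃^[n] x) = ψ₃^[n] (ρ₃ x) := fun n x =>
    (Function.Semiconj.iterate_right (f := ρ₃) (ga := φ₃) (gb := ψ₃) c₃ n).eq x
  have hbij : Function.Bijective ψ₃ :=
    bijective_five b₁ b₂ b₃ b₄ ψ₁ ψ₂ ψ₃ ψ₄ ψ₅ zb₁₂ zb₃₄ eb₂ eb₃ eb₄ cb₁ cb₂ cb₃ cb₄ h₁.bij.2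
      h₂.bij h₄.bij h₅.bij.1
  refine ⟨c₃, hbij, fun b => ?_, fun a ha => ?_⟩
  · -- surjectivity up to powers
    obtain ⟨n, a4, ha4⟩ := h₄.surj (b₃ b)
    have h5 : ρ₅ (a₄ a4) = 0 := by rw [s₄, ha4, itb₄, zb₃₄, iterate_map_zero]
    obtain ⟨m, hm⟩ := h₅.ker _ h5
    rw [← ita₄] at hm
    obtain ⟨x, hx⟩ := ea₄ _ hm
    have h3 : b₃ (ρ₃ x - ψ₃^[m + n] b) = 0 := by
      rw [map_sub, ← s₃, hx, h₄.comm_iter, ha4, ← Function.iterate_add_apply, itb₃, sub_self]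
    obtain ⟨y, hy⟩ := eb₃ _ h3
    obtain ⟨k, z, hz⟩ := h₂.surj y
    refine ⟨k + (m + n), φ₃^[k] x - a₂ z, ?_⟩
    rw [map_sub, s₂, hz, itb₂, hy, itρ₃, iterate_map_sub, ← Function.iterate_add_apply]
    abel
  · -- kernel is torsion
    have h4 : ρ₄ (a₃ a) = 0 := by rw [s₃, ha, map_zero]
    obtain ⟨n, hn⟩ := h₄.ker _ h4
    rw [← ita₃] at hn
    obtain ⟨x, hx⟩ := ea₃ _ hn
    have h2 : b₂ (ρ₂ x) = 0 := by rw [← s₂, hx, itρ₃, ha, iterate_map_zero]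
    obtain ⟨y, hy⟩ := eb₂ _ h2
    obtain ⟨k, z, hz⟩ := h₁.surj y
    have h2' : ρ₂ (φ₂^[k] x - a₁ z) = 0 := by
      rw [map_sub, h₂.comm_iter, s₁, hz, ← hy, itb₁, sub_self]
    obtain ⟨m, hm⟩ := h₂.ker _ h2'
    refine ⟨m + k + n, ?_⟩
    rw [Function.iterate_add_apply, ← hx, ← ita₂, Function.iterate_add_apply]
    rw [iterate_map_sub, sub_eq_zero] at hm
    rw [hm, ← ita₁, za₁₂]

end Five

/-- Uniformization of exponents over a finite type. -/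
theorem exists_uniform' {T : Type*} [Finite T] (Q : T → ℕ → Prop)
    (hQ : ∀ t N N', N ≤ N' → Q t N → Q t N') (h : ∀ t, ∃ N, Q t N) : ∃ N, ∀ t, Q t N := by
  choose N₀ hN₀ using h
  obtain ⟨N, hN⟩ := (Set.finite_range N₀).bddAbove
  exact ⟨N, fun t => hQ t _ _ (hN ⟨t, rfl⟩) (hN₀ t)⟩

section Glue

variable {R : Type*} [CommRing R] {ι : Type*} [Fintype ι]
  {A : Type*} [AddCommGroup A] [Module R A]
  {B : ι → Type*} [∀ i, AddCommGroup (B i)] [∀ i, Module R (B i)]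
  {C : ι → ι → Type*} [∀ i j, AddCommGroup (C i j)] [∀ i j, Module R (C i j)]

/-- multiplication by a scalar as an additive endomorphism -/
abbrev smulHom (M : Type*) [AddCommGroup M] [Module R M] (r : R) : M →+ M :=
  DistribSMul.toAddMonoidHom M r

theorem smulHom_iterate (M : Type*) [AddCommGroup M] [Module R M] (r : R) (n : ℕ) (m : M) :
    (smulHom M r)^[n] m = r ^ n • m :=
  IsLoc.iter_eq_pow_smul r (fun _ => rfl) n m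

omit [Fintype ι] in
/-- An element killed by powers of elements generating the unit ideal is zero. -/
theorem eq_zero_of_cover (g : ι → R) (hg : Ideal.span (Set.range g) = ⊤) (a : A)
    (h : ∀ i, ∃ n : ℕ, g i ^ n • a = 0) : a = 0 := by
  have := Submodule.mem_of_span_eq_top_of_smul_pow_mem (⊥ : Submodule R A) (Set.range g) hg a
    (by
      rintro ⟨_, i, rfl⟩
      obtain ⟨n, hn⟩ := h i
      exact ⟨n, by simpa using hn⟩)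
  simpa using this

/-- **Gluing.**  `A → B i → C i j` behaving like the sections of a quasi-coherent module over
`T`, `T_{g i}`, `T_{g i g j}`: compatible families glue. -/
theorem exists_glue (g : ι → R) (hg : Ideal.span (Set.range g) = ⊤)
    (ρ : ∀ i, A →ₗ[R] B i) (σ : ∀ i j, B i →ₗ[R] C i j) (τ : ∀ i j, B j →ₗ[R] C i j)
    (hστ : ∀ i j a, σ i j (ρ i a) = τ i j (ρ j a))
    (hloc : ∀ i, IsLoc (smulHom A (g i)) (smulHom (B i) (g i)) (ρ i).toAddMonoidHom)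
    (hker : ∀ i j a, σ i j (ρ i a) = 0 → ∃ n : ℕ, (g i * g j) ^ n • a = 0)
    (x : ∀ i, B i) (hx : ∀ i j, σ i j (x i) = τ i j (x j)) :
    ∃ a : A, ∀ i, ρ i a = x i := by
  classical
  -- uniform exponent `N` with `g i ^ N • x i = ρ i (a i)`
  have h1 : ∃ N : ℕ, ∀ i, ∃ a : A, ρ i a = g i ^ N • x i := by
    apply Groth.Agent.Lib.Helper1.QcqsLoc.exists_uniform'
      (Q := fun i N => ∃ a : A, ρ i a = g i ^ N • x i)
    · intro i N N' hNN' ⟨a, ha⟩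
      refine ⟨g i ^ (N' - N) • a, ?_⟩
      rw [map_smul, ha, smul_smul, ← pow_add, Nat.sub_add_cancel hNN']
    · intro i
      obtain ⟨n, a, ha⟩ := (hloc i).surj (x i)
      refine ⟨n, a, ?_⟩
      rw [← smulHom_iterate]
      exact ha
  obtain ⟨N, hN⟩ := h1
  choose a ha using hN
  -- uniform exponent `N'` with `(g i g j)^N' (g j^N a i - g i^N a j) = 0`
  have h2 : ∃ N' : ℕ, ∀ p : ι × ι,
      (g p.1 * g p.2) ^ N' • (g p.2 ^ N • a p.1 - g p.1 ^ N • a p.2) = 0 := by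
    apply Groth.Agent.Lib.Helper1.QcqsLoc.exists_uniform'
      (Q := fun (p : ι × ι) N' =>
        (g p.1 * g p.2) ^ N' • (g p.2 ^ N • a p.1 - g p.1 ^ N • a p.2) = 0)
    · intro p n n' hnn' h
      rw [← Nat.sub_add_cancel hnn', pow_add, mul_smul, h, smul_zero]
    · rintro ⟨i, j⟩
      apply hker i j
      dsimp only
      simp only [map_sub, map_smul]
      rw [ha i, hστ i j (a j), ha j, map_smul, map_smul, hx i j, smul_comm, sub_self]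
  obtain ⟨N', hN'⟩ := h2
  -- partition of unity
  have hspan : Ideal.span (Set.range fun i => g i ^ (N + N')) = ⊤ := by
    have := Ideal.span_pow_eq_top (Set.range g) hg (N + N')
    rwa [← Set.range_comp] at this
  obtain ⟨c, hc⟩ := (Ideal.mem_span_range_iff_exists_fun (R := R)).1
    (hspan ▸ Submodule.mem_top : (1 : R) ∈ Ideal.span (Set.range fun i => g i ^ (N + N')))
  refine ⟨∑ i, (c i * g i ^ N') • a i, fun k => ?_⟩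
  -- it suffices to check after multiplying by `g k ^ (N + N')`
  have hinj : Function.Injective (smulHom (B k) (g k))^[N + N'] := (hloc k).iter_injective _
  apply hinj
  rw [smulHom_iterate, smulHom_iterate, ← map_smul]
  have key : g k ^ (N + N') • ∑ i, (c i * g i ^ N') • a i = g k ^ N' • a k := by
    have e : ∀ i, g k ^ (N + N') • (c i * g i ^ N') • a i =
        (c i * g i ^ (N + N')) • g k ^ N' • a k := by
      intro i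
      have h := hN' (i, k)
      simp only at h
      rw [smul_sub, sub_eq_zero, mul_pow, smul_smul, smul_smul] at h
      calc g k ^ (N + N') • (c i * g i ^ N') • a i
          = c i • ((g i ^ N' * g k ^ N' * g k ^ N) • a i) := by
            rw [smul_smul, smul_smul]
            congr 1
            ring
        _ = c i • ((g i ^ N' * g k ^ N' * g i ^ N) • a k) := by rw [h]
        _ = (c i * g i ^ (N + N')) • g k ^ N' • a k := by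
            rw [smul_smul, smul_smul]
            congr 1
            ring
    rw [Finset.smul_sum, Finset.sum_congr rfl fun i _ => e i, ← Finset.sum_smul, hc, one_smul]
  rw [key, map_smul, ha k, smul_smul, ← pow_add, add_comm]

end Glue

end Groth.Agent.Lib.Helper1.QcqsLoc
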