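import Mathlib
import Groth.Agent.Lib.Helper1.QcqsLoc.FiveLoc

/-!
# Sections functors on `X.Modules` and the complexes of sections of a complex of modules (helper1)

`secF W : X.Modules ⥤ Ab`, restriction `resT`, scalar multiplication `smulT`, the product functor
`prodF U V` with its projections/injections and the Mayer–Vietoris transformations `mvα`, `mvβ`;
the induced maps `Hm τ K p` on the homology of the complexes of sections of a cochain complex `K`
of `O_X`-modules.
-/

set_option autoImplicit false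
universe u
open CategoryTheory CategoryTheory.Limits AlgebraicGeometry TopologicalSpace Opposite

namespace Groth.Agent.Lib.Helper1.QcqsLoc

variable {X : Scheme.{u}}

/-- The functor of sections over `W`. -/
noncomputable def secF (W : X.Opens) : X.Modules ⥤ AddCommGrpCat.{u} :=
  Scheme.Modules.toPresheaf X ⋙ (evaluation _ _).obj (op W)

@[simp] lemma secF_obj (W : X.Opens) (M : X.Modules) : (secF W).obj M = Γ(M, W) := rfl

@[simp] lemma secF_map (W : X.Opens) {M N : X.Modules} (φ : M ⟶ N) :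
    (secF W).map φ = φ.app W := rfl

instance (W : X.Opens) : (secF W).Additive where
  map_add := rfl

instance (W : X.Opens) : PreservesFiniteLimits (secF W) := by
  have h1 : PreservesFiniteLimits (Scheme.Modules.toPresheaf X) := inferInstance
  have h2 : PreservesFiniteLimits ((evaluation (Opens X)ᵒᵖ AddCommGrpCat.{u}).obj (op W)) :=
    inferInstance
  exact comp_preservesFiniteLimits _ _

/-- restriction of sections, as a natural transformation -/
noncomputable def resT {W W' : X.Opens} (h : W' ≤ W) : secF W ⟶ secF W' where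
  app M := M.presheaf.map (homOfLE h).op
  naturality _ _ φ := (φ.mapPresheaf.naturality (homOfLE h).op).symm

@[simp] lemma resT_app {W W' : X.Opens} (h : W' ≤ W) (M : X.Modules) :
    (resT h).app M = M.presheaf.map (homOfLE h).op := rfl

lemma resT_comp {W W' W'' : X.Opens} (h : W' ≤ W) (h' : W'' ≤ W') :
    resT h ≫ resT h' = resT (h'.trans h) := by
  ext M : 2
  change M.presheaf.map (homOfLE h).op ≫ M.presheaf.map (homOfLE h').op =
    M.presheaf.map (homOfLE (h'.trans h)).op
  rw [← M.presheaf.map_comp]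
  rfl

lemma resT_refl (W : X.Opens) : resT (le_refl W) = 𝟙 (secF W) := by
  ext M : 2
  simp only [resT_app, NatTrans.id_app]
  exact M.presheaf.map_id _

/-- scalar multiplication by a function on `W`, as a natural endomorphism of `secF W` -/
noncomputable def smulT (W : X.Opens) (r : Γ(X, W)) : secF W ⟶ secF W where
  app M := M.smul r
  naturality M N φ := by
    ext x
    exact (Scheme.Modules.Hom.app_smul φ r x).symm

@[simp] lemma smulT_app (W : X.Opens) (r : Γ(X, W)) (M : X.Modules) :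
    (smulT W r).app M = M.smul r := rfl

lemma smulT_add (W : X.Opens) (r s : Γ(X, W)) : smulT W (r + s) = smulT W r + smulT W s := by
  ext M : 2
  simp only [smulT_app, map_add]
  rfl

lemma smulT_mul (W : X.Opens) (r s : Γ(X, W)) : smulT W (r * s) = smulT W s ≫ smulT W r := by
  ext M : 2
  simp only [smulT_app, map_mul, NatTrans.comp_app]
  rfl

lemma smulT_one (W : X.Opens) : smulT W (1 : Γ(X, W)) = 𝟙 (secF W) := by
  ext M : 2
  simp only [smulT_app, map_one, NatTrans.id_app]
  rfl

lemma smulT_resT {W W' : X.Opens} (h : W' ≤ W) (r : Γ(X, W)) :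
    smulT W r ≫ resT h = resT h ≫ smulT W' (X.presheaf.map (homOfLE h).op r) := by
  ext M : 2
  simp only [NatTrans.comp_app, smulT_app, resT_app]
  exact Scheme.Modules.map_comp_smul (homOfLE h) r

/-! ### The product functor `M ↦ Γ(M, U) × Γ(M, V)` -/

/-- `M ↦ Γ(M, U) × Γ(M, V)` -/
noncomputable def prodF (U V : X.Opens) : X.Modules ⥤ AddCommGrpCat.{u} where
  obj M := AddCommGrpCat.of (Γ(M, U) × Γ(M, V))
  map φ := AddCommGrpCat.ofHom ((φ.app U).hom.prodMap (φ.app V).hom)
  map_id M := by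
    ext x : 2
    rfl
  map_comp φ ψ := by
    ext x : 2
    rfl

instance (U V : X.Opens) : (prodF U V).Additive where
  map_add := by
    intros
    ext x : 2
    rfl

/-- first projection -/
noncomputable def pr₁ (U V : X.Opens) : prodF U V ⟶ secF U where
  app M := AddCommGrpCat.ofHom (AddMonoidHom.fst Γ(M, U) Γ(M, V))
  naturality _ _ φ := by
    ext x : 2
    rfl

/-- second projection -/
noncomputable def pr₂ (U V : X.Opens) : prodF U V ⟶ secF V where
  app M := AddCommGrpCat.ofHom (AddMonoidHom.snd Γ(M, U) Γ(M, V))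
  naturality _ _ φ := by
    ext x : 2
    rfl

/-- first injection -/
noncomputable def in₁ (U V : X.Opens) : secF U ⟶ prodF U V where
  app M := AddCommGrpCat.ofHom (AddMonoidHom.inl Γ(M, U) Γ(M, V))
  naturality M N φ := by
    ext x : 2
    change ((φ.app U).hom x, (0 : Γ(N, V))) = ((φ.app U).hom x, (φ.app V).hom 0)
    rw [map_zero]

/-- second injection -/
noncomputable def in₂ (U V : X.Opens) : secF V ⟶ prodF U V where
  app M := AddCommGrpCat.ofHom (AddMonoidHom.inr Γ(M, U) Γ(M, V))
  naturality M N φ := by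
    ext x : 2
    change ((0 : Γ(N, U)), (φ.app V).hom x) = ((φ.app U).hom 0, (φ.app V).hom x)
    rw [map_zero]

lemma in₁_pr₁ (U V : X.Opens) : in₁ U V ≫ pr₁ U V = 𝟙 _ := by
  ext M : 2
  ext x : 2
  rfl

lemma in₂_pr₂ (U V : X.Opens) : in₂ U V ≫ pr₂ U V = 𝟙 _ := by
  ext M : 2
  ext x : 2
  rfl

lemma in₁_pr₂ (U V : X.Opens) : in₁ U V ≫ pr₂ U V = 0 := by
  ext M : 2
  ext x : 2
  rfl

lemma in₂_pr₁ (U V : X.Opens) : in₂ U V ≫ pr₁ U V = 0 := by
  ext M : 2
  ext x : 2
  rfl

lemma pr_in_total (U V : X.Opens) : pr₁ U V ≫ in₁ U V + pr₂ U V ≫ in₂ U V = 𝟙 _ := by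
  ext M : 2
  ext x : 2
  change ((x : Γ(M, U) × Γ(M, V)).1, (0 : Γ(M, V))) + ((0 : Γ(M, U)), x.2) = x
  ext <;> simp

/-- a pair of transformations into the two factors -/
noncomputable def pairT {G : X.Modules ⥤ AddCommGrpCat.{u}} {U V : X.Opens} (a : G ⟶ secF U)
    (b : G ⟶ secF V) : G ⟶ prodF U V where
  app M := AddCommGrpCat.ofHom (AddMonoidHom.prod (a.app M).hom (b.app M).hom)
  naturality M N φ := by
    ext x : 2
    change ((a.app N).hom ((G.map φ).hom x), (b.app N).hom ((G.map φ).hom x)) =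
      ((φ.app U).hom ((a.app M).hom x), (φ.app V).hom ((b.app M).hom x))
    have h1 := ConcreteCategory.congr_hom (a.naturality φ) x
    have h2 := ConcreteCategory.congr_hom (b.naturality φ) x
    exact Prod.ext h1 h2

lemma pairT_pr₁ {G : X.Modules ⥤ AddCommGrpCat.{u}} {U V : X.Opens} (a : G ⟶ secF U)
    (b : G ⟶ secF V) : pairT a b ≫ pr₁ U V = a := by
  ext M : 2
  ext x : 2
  rfl

lemma pairT_pr₂ {G : X.Modules ⥤ AddCommGrpCat.{u}} {U V : X.Opens} (a : G ⟶ secF U)
    (b : G ⟶ secF V) : pairT a b ≫ pr₂ U V = b := by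
  ext M : 2
  ext x : 2
  rfl

lemma prodF_hom_ext {G : X.Modules ⥤ AddCommGrpCat.{u}} {U V : X.Opens} {a b : G ⟶ prodF U V}
    (h1 : a ≫ pr₁ U V = b ≫ pr₁ U V) (h2 : a ≫ pr₂ U V = b ≫ pr₂ U V) : a = b := by
  ext M : 2
  ext x : 2
  have e1 := ConcreteCategory.congr_hom (congrArg (fun t => t.app M) h1) x
  have e2 := ConcreteCategory.congr_hom (congrArg (fun t => t.app M) h2) x
  exact Prod.ext e1 e2

/-- the Mayer–Vietoris map `s ↦ (s|_U, s|_V)` -/
noncomputable def mvα {W U V : X.Opens} (hU : U ≤ W) (hV : V ≤ W) : secF W ⟶ prodF U V :=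
  pairT (resT hU) (resT hV)

/-- the Mayer–Vietoris map `(a, b) ↦ a|_Z - b|_Z` -/
noncomputable def mvβ {U V Z : X.Opens} (hZU : Z ≤ U) (hZV : Z ≤ V) : prodF U V ⟶ secF Z :=
  pr₁ U V ≫ resT hZU - pr₂ U V ≫ resT hZV

lemma mvα_mvβ {W U V Z : X.Opens} (hU : U ≤ W) (hV : V ≤ W) (hZU : Z ≤ U) (hZV : Z ≤ V) :
    mvα hU hV ≫ mvβ hZU hZV = 0 := by
  unfold mvα mvβ
  rw [Preadditive.comp_sub, ← Category.assoc, ← Category.assoc, pairT_pr₁, pairT_pr₂, resT_comp,
    resT_comp, sub_self]

end Groth.Agent.Lib.Helper1.QcqsLoc
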