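import Groth.Agent.Lib.Helper1.QcqsLoc.Hm
import Groth.Agent.Lib.Helper1.QcqsLoc.SecModel
import Groth.Agent.Lib.Helper5.RDerExchange2
import Groth.Agent.Lib.Helper5.RDerExact
import Groth.Agent.Lib.Helper83.ModAcyclic
import Groth.Agent.Lib.Helper83.ModCoh
import Groth.Agent.S14350
import Groth.Agent.S0864
import Groth.Agent.Lib.Helper1.AffineVanishing

/-!
# Acyclicity on affine opens of the complex of sections of an injective resolution (helper1)
-/

set_option autoImplicit false
universe u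
open CategoryTheory CategoryTheory.Limits AlgebraicGeometry TopologicalSpace Opposite

namespace Groth.Agent.Lib.Helper1.QcqsLoc

open Groth.Agent.Lib.Helper83.ModCoh Groth.Agent.Lib.Helper5

variable {X : Scheme.{u}}

/-- sections over `A` of an abelian sheaf -/
noncomputable abbrev ΓAb (A : X.Opens) :
    Sheaf (Opens.grothendieckTopology X) AddCommGrpCat.{u} ⥤ AddCommGrpCat.{u} :=
  sheafToPresheaf (Opens.grothendieckTopology X) AddCommGrpCat.{u} ⋙
    (evaluation (Opens X)ᵒᵖ AddCommGrpCat.{u}).obj (op A)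

instance (A : X.Opens) :
    ((evaluation (Opens X)ᵒᵖ AddCommGrpCat.{u}).obj (op A)).PreservesHomology :=
  preservesHomology_of_exact _

/-- `R^n Γ(A, -) F ≅ H^n(A, F)` -/
theorem nonempty_ΓAb_rightDerived_iso (A : X.Opens)
    (F : Sheaf (Opens.grothendieckTopology X) AddCommGrpCat.{u}) (n : ℕ) :
    Nonempty (((ΓAb A).rightDerived n).obj F ≅ Sheaf.H' F n A) := by
  obtain ⟨e⟩ := Groth.Agent.S14350.result (X := X.toTopCat) F n
  exact ⟨rightDerivedCompExactIso
    (sheafToPresheaf (Opens.grothendieckTopology X) AddCommGrpCat.{u})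
    ((evaluation (Opens X)ᵒᵖ AddCommGrpCat.{u}).obj (op A)) F n ≪≫
    ((evaluation (Opens X)ᵒᵖ AddCommGrpCat.{u}).obj (op A)).mapIso e⟩

theorem isZero_ΓAb_rightDerived_of_totallyAcyclic (A : X.Opens)
    (F : Sheaf (Opens.grothendieckTopology X) AddCommGrpCat.{u}) (hF : CohCx.IsTotallyAcyclic F)
    (n : ℕ) : IsZero (((ΓAb A).rightDerived (n + 1)).obj F) := by
  obtain ⟨e⟩ := nonempty_ΓAb_rightDerived_iso A F (n + 1)
  have := Groth.Agent.S0864.result F hF A n
  exact IsZero.of_iso (AddCommGrpCat.isZero_of_subsingleton _) e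

/-- `R^n(secF A) M ≅ R^nΓ(A, -)(toAb M)` -/
theorem nonempty_secF_rightDerived_iso [HasInjectiveResolutions X.Modules] (A : X.Opens)
    (M : X.Modules) (n : ℕ) :
    Nonempty (((secF A).rightDerived n).obj M ≅ ((ΓAb A).rightDerived n).obj (Coh.toAb M)) := by
  let E₁ : X.Modules ⥤ Sheaf (Opens.grothendieckTopology X) AddCommGrpCat.{u} :=
    SheafOfModules.toSheaf X.ringCatSheaf
  have hE₁a : E₁.Additive := inferInstanceAs (SheafOfModules.toSheaf X.ringCatSheaf).Additive
  have hE₁l : PreservesFiniteLimits E₁ :=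
    inferInstanceAs (PreservesFiniteLimits (SheafOfModules.toSheaf X.ringCatSheaf))
  have hE₁c : PreservesFiniteColimits E₁ :=
    inferInstanceAs (PreservesFiniteColimits (SheafOfModules.toSheaf X.ringCatSheaf))
  let e₀ : secF A ⋙ 𝟭 AddCommGrpCat.{u} ≅ E₁ ⋙ ΓAb A :=
    NatIso.ofComponents (fun M => Iso.refl _) (fun g => by
      simp only [Iso.refl_hom]
      rfl)
  obtain ⟨e⟩ := RDerExchange2.nonempty_rightDerived_exchange_iso₂ E₁ (𝟭 AddCommGrpCat.{u})
    (secF A) (ΓAb A) e₀ (by
      intro I hI k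
      have hI' : Injective (C := SheafOfModules.{u} X.ringCatSheaf) I := hI
      have hac := @Groth.Agent.Lib.Helper83.ModAcyclic.isTotallyAcyclic_toSheaf_of_injective
        _ _ _ X.ringCatSheaf I hI'
      exact isZero_ΓAb_rightDerived_of_totallyAcyclic A _ hac k) n
  exact ⟨e.app M⟩

/-- **Acyclicity on affines**: the complex of sections over an affine open of an injective
resolution of a quasi-coherent module is exact in positive degrees. -/
theorem subsingleton_homology_of_isAffineOpen [HasInjectiveResolutions X.Modules]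
    (M : X.Modules) [M.IsQuasicoherent] (I : InjectiveResolution M) (A : X.Opens)
    (hA : IsAffineOpen A) (p : ℕ) :
    Subsingleton ((GC I.cocomplex (secF A)).homology (p + 1)) := by
  obtain ⟨e₁⟩ := nonempty_secF_rightDerived_iso A M (p + 1)
  obtain ⟨e₂⟩ := nonempty_ΓAb_rightDerived_iso A (Coh.toAb M) (p + 1)
  have e₃ := I.isoRightDerivedObj (secF A) (p + 1)
  have h := Groth.Agent.Lib.Helper1.subsingleton_HU_of_isAffineOpen M A hA p
  have hz : IsZero (Sheaf.H' (Coh.toAb M) (p + 1) A) :=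
    @AddCommGrpCat.isZero_of_subsingleton (Sheaf.H' (Coh.toAb M) (p + 1) A) h
  have hz' : IsZero ((GC I.cocomplex (secF A)).homology (p + 1)) :=
    IsZero.of_iso hz (e₃.symm ≪≫ e₁ ≪≫ e₂)
  exact AddCommGrpCat.subsingleton_of_isZero hz'

end Groth.Agent.Lib.Helper1.QcqsLoc
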