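import Groth.Agent.Lib.Helper1.QcqsLoc.Induct
import Groth.Agent.Lib.Helper45.QCohStalk
import Groth.Agent.Lib.Helper1.HHTools

/-!
# Degree zero and the affine base case (helper1)

`aug`: the map `G(M) → H^0(G K)` of an augmented complex `M → K`; for a resolution and a left exact
`G` it is bijective.  The base case of the localization property on affine opens.
-/

set_option autoImplicit false
universe u
open CategoryTheory CategoryTheory.Limits AlgebraicGeometry TopologicalSpace Opposite
  HomologicalComplex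

namespace Groth.Agent.Lib.Helper1.QcqsLoc

open Groth.Agent.Lib.Helper1.CohLoc Groth.Agent.Lib.Helper17.AbHomology

section Aug

variable {C : Type*} [Category C] [Abelian C] (K : CochainComplex C ℕ) {M : C} (ι : M ⟶ K.X 0)
  (hι : ι ≫ K.d 0 1 = 0)

/-- `G(M) → Z^0(G K)` -/
noncomputable def augZ (G : C ⥤ AddCommGrpCat.{u}) [G.Additive] : G.obj M ⟶ (GC K G).cycles 0 :=
  (GC K G).liftCycles (G.map ι) 1 (by simp) (by
    change G.map ι ≫ G.map (K.d 0 1) = 0
    rw [← G.map_comp, hι, G.map_zero])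

/-- `G(M) → H^0(G K)` -/
noncomputable def aug (G : C ⥤ AddCommGrpCat.{u}) [G.Additive] : G.obj M ⟶ (GC K G).homology 0 :=
  augZ K ι hι G ≫ (GC K G).homologyπ 0

lemma iCycles_augZ (G : C ⥤ AddCommGrpCat.{u}) [G.Additive] (s : G.obj M) :
    (GC K G).iCycles 0 ((augZ K ι hι G).hom s) = (G.map ι).hom s := by
  have := ConcreteCategory.congr_hom ((GC K G).liftCycles_i (G.map ι) 1 (by simp) (by
    change G.map ι ≫ G.map (K.d 0 1) = 0
    rw [← G.map_comp, hι, G.map_zero])) s
  exact this

lemma aug_naturality {G G' : C ⥤ AddCommGrpCat.{u}} [G.Additive] [G'.Additive] (τ : G ⟶ G')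
    (s : G.obj M) :
    (Hm K τ 0).hom ((aug K ι hι G).hom s) = (aug K ι hι G').hom ((τ.app M).hom s) := by
  change (Hm K τ 0).hom ((GC K G).homologyπ 0 ((augZ K ι hι G).hom s)) =
    (GC K G').homologyπ 0 ((augZ K ι hι G').hom ((τ.app M).hom s))
  rw [Groth.Agent.Lib.Helper1.CohLoc.homologyMap_π]
  congr 1
  apply iCycles_injective (GC K G') 0
  rw [Groth.Agent.Lib.Helper1.CohLoc.iCycles_cyclesMap, iCycles_augZ, iCycles_augZ]
  exact ConcreteCategory.congr_hom (τ.naturality ι) s

lemma aug_bijective (G : C ⥤ AddCommGrpCat.{u}) [G.Additive]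
    (hinj : Function.Injective (G.map ι).hom)
    (hex : ∀ c : G.obj (K.X 0), (G.map (K.d 0 1)).hom c = 0 → ∃ s, (G.map ι).hom s = c) :
    Function.Bijective (aug K ι hι G).hom := by
  constructor
  · rw [injective_iff_map_eq_zero]
    intro s hs
    have h1 : (augZ K ι hι G).hom s = 0 :=
      homologyπ_zero_injective (GC K G) (hs.trans (map_zero _).symm)
    have h2 : (G.map ι).hom s = 0 := by
      rw [← iCycles_augZ K ι hι G s, h1]
      exact map_zero _
    exact hinj (h2.trans (map_zero _).symm)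
  · intro x
    obtain ⟨z, rfl⟩ := homologyπ_surjective (GC K G) 0 x
    obtain ⟨s, hs⟩ := hex ((GC K G).iCycles 0 z) (d_iCycles (GC K G) 0 z 1)
    refine ⟨s, ?_⟩
    change (GC K G).homologyπ 0 ((augZ K ι hι G).hom s) = _
    congr 1
    apply iCycles_injective (GC K G) 0
    rw [iCycles_augZ, hs]

end Aug

variable {X : Scheme.{u}} (K : CochainComplex X.Modules ℕ) {M : X.Modules} (ι : M ⟶ K.X 0)
  (hι : ι ≫ K.d 0 1 = 0)

/-- for a left exact augmentation, `Γ(M, V) ≃ H^0(V, K)` -/
lemma aug_secF_bijective [Mono ι] (hex : (ShortComplex.mk ι (K.d 0 1) hι).Exact) (V : X.Opens) :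
    Function.Bijective (aug K ι hι (secF V)).hom := by
  have hmono : Mono ((secF V).map ι) := inferInstance
  have hex' := hex.map_of_mono_of_preservesKernel (secF V) ‹Mono ι› inferInstance
  rw [ShortComplex.ab_exact_iff] at hex'
  exact aug_bijective K ι hι (secF V) ((AddCommGrpCat.mono_iff_injective _).1 hmono) hex'

section Sections

variable {W₀ : X.Opens} (h : Γ(X, W₀)) (N : X.Modules)

/-- the sections of a quasi-coherent module over an affine open localize -/
theorem isLoc_sections [N.IsQuasicoherent] {V V' : X.Opens} (hV : IsAffineOpen V)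
    (hVW : V ≤ W₀) (hV' : V' = V ⊓ X.basicOpen h) (hle : V' ≤ V) :
    IsLoc (A := Γ(N, V)) (B := Γ(N, V')) (N.smul (hr h hVW)).hom
      (N.smul (hr h (hle.trans hVW))).hom (rs N hle) := by
  obtain ⟨r, hr'⟩ : ∃ r : Γ(X, V), r = hr h hVW := ⟨_, rfl⟩
  have e : X.basicOpen r = V' := by rw [hV', hr', Scheme.basicOpen_res]
  subst e
  have hrr : hr h ((X.basicOpen_le r).trans hVW) =
      X.presheaf.map (homOfLE (X.basicOpen_le r)).op r := by
    rw [hr', hr_res]
  rw [hrr, ← hr']
  have hunit : IsUnit (X.presheaf.map (homOfLE (X.basicOpen_le r)).op r) :=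
    RingedSpace.isUnit_res_basicOpen _ r
  refine ⟨fun a => ?_, ?_, fun b => ?_, fun a ha => ?_⟩
  · change N.presheaf.map (homOfLE (X.basicOpen_le r)).op (r • a) =
      (X.presheaf.map (homOfLE (X.basicOpen_le r)).op r) •
        N.presheaf.map (homOfLE (X.basicOpen_le r)).op a
    rw [Scheme.Modules.map_smul]
  · obtain ⟨u, hu⟩ := hunit
    constructor
    · intro x y hxy
      have hxy' : (u : Γ(X, X.basicOpen r)) • x = (u : Γ(X, X.basicOpen r)) • y := by
        rw [hu]
        exact hxy
      have := congrArg (fun t => ((u⁻¹ : (Γ(X, X.basicOpen r))ˣ) : Γ(X, X.basicOpen r)) • t) hxy'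
      simpa [smul_smul] using this
    · intro y
      refine ⟨((u⁻¹ : (Γ(X, X.basicOpen r))ˣ) : Γ(X, X.basicOpen r)) • y, ?_⟩
      change (X.presheaf.map (homOfLE (X.basicOpen_le r)).op r) • _ = y
      rw [← hu, smul_smul]
      simp
  · obtain ⟨n, t, ht⟩ := Groth.Agent.Lib.Helper45.exists_restrict_eq_pow_smul hV N r b
    refine ⟨n, t, ?_⟩
    rw [IsLoc.iter_eq_pow_smul (X.presheaf.map (homOfLE (X.basicOpen_le r)).op r) (fun _ => rfl)]
    exact ht
  · obtain ⟨n, hn⟩ := Groth.Agent.Lib.Helper45.exists_pow_smul_eq_zero_of_restrict_eq_zero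
      hV N r a ha
    refine ⟨n, ?_⟩
    rw [IsLoc.iter_eq_pow_smul r (fun _ => rfl)]
    exact hn

end Sections

/-- **The affine base case.** -/
theorem prLoc_of_isAffineOpen {W₀ : X.Opens} (h : Γ(X, W₀)) [M.IsQuasicoherent] [Mono ι]
    (hex : (ShortComplex.mk ι (K.d 0 1) hι).Exact)
    (hacyc : ∀ A : X.Opens, IsAffineOpen A → ∀ p : ℕ,
      Subsingleton ((GC K (secF A)).homology (p + 1)))
    (A : X.Opens) (hA : IsAffineOpen A) : PrLoc K h A := by
  intro hAW p
  have hA' : IsAffineOpen (A ⊓ X.basicOpen h) := by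
    rw [← Scheme.basicOpen_res _ _ (homOfLE hAW).op]
    exact hA.basicOpen _
  cases p with
  | succ p =>
    have := hacyc A hA p
    have := hacyc _ hA' p
    exact isLoc_of_subsingleton _ _ _
  | zero =>
    refine IsLoc.of_equiv_symm (isLoc_sections h M hA hAW rfl inf_le_left)
      (AddEquiv.ofBijective (aug K ι hι (secF A)).hom (aug_secF_bijective K ι hι hex A))
      (AddEquiv.ofBijective (aug K ι hι (secF (A ⊓ X.basicOpen h))).hom
        (aug_secF_bijective K ι hι hex (A ⊓ X.basicOpen h))) ?_ ?_ ?_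
    · intro a
      exact (aug_naturality K ι hι (smulT A (hr h hAW)) a).symm
    · intro a
      exact (aug_naturality K ι hι (smulT (A ⊓ X.basicOpen h)
        (hr h ((inf_le_left : A ⊓ X.basicOpen h ≤ A).trans hAW))) a).symm
    · intro a
      exact (aug_naturality K ι hι (resT (inf_le_left : A ⊓ X.basicOpen h ≤ A)) a).symm

end Groth.Agent.Lib.Helper1.QcqsLoc
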