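import Groth.Agent.Lib.Helper1.QcqsLoc.Sheafify
import Groth.Agent.Lib.Helper18.LSubExt
import Groth.Agent.Lib.Helper45.LocalizingOn

/-!
# Quasi-coherence of the homology sheaves of a complex with localizing cohomology (helper1)
-/

set_option autoImplicit false
universe u
open CategoryTheory CategoryTheory.Limits AlgebraicGeometry TopologicalSpace Opposite
  HomologicalComplex

namespace Groth.Agent.Lib.Helper1.QcqsLoc

open Groth.Agent.Lib.Helper1.CohLoc Groth.Agent.Lib.Helper17.AbHomology

variable {S : Scheme.{u}} (L : CochainComplex S.Modules ℕ) (p : ℕ)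

theorem isLocalizingOn_homology (hL : HL L p) {T : S.Opens} (hT : IsAffineOpen T) :
    Groth.Agent.Lib.Helper45.IsLocalizingOn (L.homology p) T := by
  constructor
  · intro f s
    obtain ⟨s', rfl⟩ := kap_surjective_of_isAffineOpen L p hL (hT.basicOpen f) s
    obtain ⟨n, t', ht'⟩ := (hL T hT f).surj s'
    refine ⟨n, (kap L (secF T) p).hom t', ?_⟩
    have h1 := kap_ρH L p (S.basicOpen_le f) t'
    rw [ht'] at h1
    rw [← kap_smul_iterate]
    exact h1.symm
  · intro f t ht0
    obtain ⟨t', rfl⟩ := kap_surjective_of_isAffineOpen L p hL hT t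
    have h0 : ρH L (S.basicOpen_le f) p t' = 0 := by
      apply kap_injective_of_isAffineOpen L p hL (hT.basicOpen f)
      rw [kap_ρH, map_zero]
      exact ht0
    obtain ⟨n, hn⟩ := (hL T hT f).ker t' h0
    refine ⟨n, ?_⟩
    have h1 : (φH L f (le_refl T) p)^[n] t' = (Hm L (smulT T f) p).hom^[n] t' := by
      congr 1
      ext x
      exact φH_refl L p f x
    rw [← kap_smul_iterate, ← h1, hn]
    exact map_zero _

/-- **Quasi-coherence of the homology sheaf.** -/
theorem isQuasicoherent_homology (hL : HL L p) : (L.homology p).IsQuasicoherent := by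
  refine Groth.Agent.Lib.Helper18.LSubM.isQuasicoherent_of_isLocalizingOn_cover (L.homology p)
    {T | IsAffineOpen T} (fun T hT => hT) (fun x => ?_)
    (fun T hT => isLocalizingOn_homology L p hL hT)
  obtain ⟨_, ⟨T, hT : IsAffineOpen T, rfl⟩, hxT, -⟩ :=
    (S.isBasis_affineOpens).exists_subset_of_mem_open (Set.mem_univ x) isOpen_univ
  exact ⟨T, hT, hxT⟩

end Groth.Agent.Lib.Helper1.QcqsLoc
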