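import Groth.Agent.Lib.Helper1.QcqsLoc.InjRes
import Groth.Agent.Lib.Helper1.QcqsLoc.QCohH

/-!
# Higher direct images of quasi-coherent modules along qcqs morphisms are quasi-coherent (helper1)
-/

set_option autoImplicit false
universe u
open CategoryTheory CategoryTheory.Limits AlgebraicGeometry TopologicalSpace Opposite
  HomologicalComplex

namespace Groth.Agent.Lib.Helper1.QcqsLoc

open Groth.Agent.Lib.Helper1.CohLoc Groth.Agent.Lib.Helper17.AbHomology

variable {X S : Scheme.{u}} (f : X ⟶ S)

/-- the pushed forward complex -/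
noncomputable abbrev pushC (K : CochainComplex X.Modules ℕ) : CochainComplex S.Modules ℕ :=
  ((Scheme.Modules.pushforward f).mapHomologicalComplex (ComplexShape.up ℕ)).obj K

lemma app_hr {T V : S.Opens} (hV : V ≤ T) (g : Γ(S, T)) :
    f.app V (hr g hV) = hr (f.app T g) (f.preimage_mono hV) :=
  ConcreteCategory.congr_hom (f.naturality (homOfLE hV).op) g

lemma isLoc_of_prLoc {K : CochainComplex X.Modules ℕ} {W₀ : X.Opens} (h : Γ(X, W₀))
    {V : X.Opens} (hP : PrLoc K h V) (hV : V ≤ W₀) (V' : X.Opens)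
    (e : V' = V ⊓ X.basicOpen h) (p : ℕ) :
    IsLoc (φH K h hV p) (φH K h (e.le.trans (inf_le_left.trans hV)) p)
      (ρH K (e.le.trans inf_le_left) p) := by
  subst e
  exact hP hV p

/-- **The localization hypothesis for `f_* I`.** -/
theorem hl_pushC [QuasiCompact f] [QuasiSeparated f] [HasInjectiveResolutions X.Modules]
    (M : X.Modules) [M.IsQuasicoherent] (I : InjectiveResolution M) (p : ℕ) :
    HL (pushC f I.cocomplex) p := by
  intro T hT g
  have hqs : IsQuasiSeparated ((f ⁻¹ᵁ T : X.Opens) : Set X) :=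
    f.isQuasiSeparated_preimage hT.isQuasiSeparated
  have hc : IsCompact ((f ⁻¹ᵁ T : X.Opens) : Set X) := f.isCompact_preimage hT.isCompact
  have hP := prLoc_injectiveResolution M I (f.app T g) hqs (f ⁻¹ᵁ T) hc
  have e : f ⁻¹ᵁ (S.basicOpen g) = f ⁻¹ᵁ T ⊓ X.basicOpen (f.app T g) := by
    rw [Scheme.preimage_basicOpen]
    exact (inf_eq_right.2 (X.basicOpen_le _)).symm
  have hL1 := isLoc_of_prLoc (f.app T g) hP (le_refl _) (f ⁻¹ᵁ (S.basicOpen g)) e p
  refine IsLoc.of_equiv hL1 (AddEquiv.refl _) (AddEquiv.refl _) (fun a => ?_) (fun b => ?_)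
    (fun a => ?_)
  · change (Hm I.cocomplex (smulT (f ⁻¹ᵁ T) (f.app T (hr g (le_refl T)))) p).hom a =
      (Hm I.cocomplex (smulT (f ⁻¹ᵁ T) (hr (f.app T g) (le_refl _))) p).hom a
    rw [app_hr]
  · change (Hm I.cocomplex (smulT (f ⁻¹ᵁ (S.basicOpen g))
        (f.app _ (hr g (S.basicOpen_le g)))) p).hom b =
      (Hm I.cocomplex (smulT (f ⁻¹ᵁ (S.basicOpen g)) (hr (f.app T g) _)) p).hom b
    rw [app_hr]
  · rfl

/-- **Quasi-coherence of `H^p(f_* I)`.** -/
theorem isQuasicoherent_homology_pushC [QuasiCompact f] [QuasiSeparated f]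
    [HasInjectiveResolutions X.Modules]
    (M : X.Modules) [M.IsQuasicoherent] (I : InjectiveResolution M) (p : ℕ) :
    ((pushC f I.cocomplex).homology p).IsQuasicoherent :=
  isQuasicoherent_homology _ p (hl_pushC f M I p)

/-- **Higher direct images of quasi-coherent modules along qcqs morphisms are quasi-coherent.** -/
theorem isQuasicoherent_rightDerived_pushforward [QuasiCompact f] [QuasiSeparated f]
    [HasInjectiveResolutions X.Modules] (M : X.Modules) [M.IsQuasicoherent] (p : ℕ) :
    (((Scheme.Modules.pushforward f).rightDerived p).obj M).IsQuasicoherent := by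
  let I := injectiveResolution M
  have e := I.isoRightDerivedObj (Scheme.Modules.pushforward f) p
  have h := isQuasicoherent_homology_pushC f M I p
  exact (SheafOfModules.isQuasicoherent S.ringCatSheaf).prop_of_iso e.symm h

end Groth.Agent.Lib.Helper1.QcqsLoc
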