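import Groth.Agent.Lib.Helper1.QcqsLoc.KappaNat
import Groth.Agent.Lib.Helper1.QcqsLoc.PushHL
import Groth.Agent.Lib.Helper83.Horseshoe
import Groth.Agent.Lib.Helper83.DerivedLES

/-!
# The edge map `R^p(Γ(f⁻¹V, -))(F) ⟶ Γ(V, R^p f_* F)` and its compatibility with the connecting
morphisms (helper1)
-/

set_option autoImplicit false
universe u
open CategoryTheory CategoryTheory.Limits AlgebraicGeometry TopologicalSpace Opposite
  HomologicalComplex

namespace Groth.Agent.Lib.Helper1.QcqsLoc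

open Groth.Agent.Lib.Helper1.CohLoc Groth.Agent.Lib.Helper17.AbHomology

variable {X S : Scheme.{u}} (f : X ⟶ S) [HasInjectiveResolutions X.Modules] (V : S.Opens)

/-- the edge map computed with an injective resolution `I` -/
noncomputable def edgeI {F : X.Modules} (I : InjectiveResolution F) (p : ℕ) :
    ((secF (f ⁻¹ᵁ V)).rightDerived p).obj F ⟶
      (secF V).obj (((Scheme.Modules.pushforward f).rightDerived p).obj F) :=
  (I.isoRightDerivedObj (secF (f ⁻¹ᵁ V)) p).hom ≫ kap (pushC f I.cocomplex) (secF V) p ≫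
    (secF V).map (I.isoRightDerivedObj (Scheme.Modules.pushforward f) p).inv

/-- **the edge map** -/
noncomputable def edge (F : X.Modules) (p : ℕ) :
    ((secF (f ⁻¹ᵁ V)).rightDerived p).obj F ⟶
      (secF V).obj (((Scheme.Modules.pushforward f).rightDerived p).obj F) :=
  edgeI f V (injectiveResolution F) p

/-- abstract bookkeeping -/
theorem edge_aux {C D : Type*} [Category C] [Category D] (G : C ⥤ D)
    {A₃ A₃' A₁ A₁' : D} {B₃ B₃' B₁ B₁' : C}
    (a₃ : A₃ ≅ A₃') (a₁ : A₁ ≅ A₁') (b₃ : B₃ ≅ B₃') (b₁ : B₁ ≅ B₁')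
    (δΨ : A₃' ⟶ A₁') (δΦ : B₃' ⟶ B₁') (k₁ : A₁' ⟶ G.obj B₁') (k₃ : A₃' ⟶ G.obj B₃')
    (key : δΨ ≫ k₁ = k₃ ≫ G.map δΦ) :
    (a₃.hom ≫ δΨ ≫ a₁.inv) ≫ (a₁.hom ≫ k₁ ≫ G.map b₁.inv) =
      (a₃.hom ≫ k₃ ≫ G.map b₃.inv) ≫ G.map (b₃.hom ≫ δΦ ≫ b₁.inv) := by
  simp only [Category.assoc, Functor.map_comp, Iso.inv_hom_id_assoc]
  rw [reassoc_of% key]
  congr 2
  rw [← Functor.map_comp_assoc, Iso.inv_hom_id, CategoryTheory.Functor.map_id, Category.id_comp]

open Groth.Agent.Lib.Helper83 in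
/-- the edge maps (computed from a resolution of the sequence) commute with the connecting
morphisms -/
theorem edgeI_delta (Sx : ShortComplex X.Modules) (T : RDer.SESRes Sx) (p : ℕ) :
    T.delta (secF (f ⁻¹ᵁ V)) p (p + 1) rfl ≫ edgeI f V T.I₁ (p + 1) =
      edgeI f V T.I₃ p ≫ (secF V).map (T.delta (Scheme.Modules.pushforward f) p (p + 1) rfl) := by
  have hΦ : (T.cx.map ((Scheme.Modules.pushforward f).mapHomologicalComplex
      (ComplexShape.up ℕ))).ShortExact := T.map_shortExact _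
  have hGΦ : ((T.cx.map ((Scheme.Modules.pushforward f).mapHomologicalComplex
      (ComplexShape.up ℕ))).map ((secF V).mapHomologicalComplex (ComplexShape.up ℕ))).ShortExact :=
    T.map_shortExact (secF (f ⁻¹ᵁ V))
  have key := δ_kap (secF V) hΦ hGΦ p ((T.map_shortExact (secF (f ⁻¹ᵁ V))).δ p (p + 1) rfl) rfl
  exact edge_aux (secF V) (T.I₃.isoRightDerivedObj (secF (f ⁻¹ᵁ V)) p)
    (T.I₁.isoRightDerivedObj (secF (f ⁻¹ᵁ V)) (p + 1))
    (T.I₃.isoRightDerivedObj (Scheme.Modules.pushforward f) p)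
    (T.I₁.isoRightDerivedObj (Scheme.Modules.pushforward f) (p + 1))
    ((T.map_shortExact (secF (f ⁻¹ᵁ V))).δ p (p + 1) rfl) (hΦ.δ p (p + 1) rfl)
    (kap (pushC f T.I₁.cocomplex) (secF V) (p + 1)) (kap (pushC f T.I₃.cocomplex) (secF V) p) key

open Groth.Agent.Lib.Helper83 in
/-- the edge maps commute with the connecting morphisms -/
theorem edge_delta (ΔΨ : RDer.DerivedLES (secF (f ⁻¹ᵁ V)))
    (ΔΦ : RDer.DerivedLES (Scheme.Modules.pushforward f))
    (Sx : ShortComplex X.Modules) (hS : Sx.ShortExact) (p : ℕ) :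
    ΔΨ.δ Sx hS p (p + 1) rfl ≫ edge f V Sx.X₁ (p + 1) =
      edge f V Sx.X₃ p ≫ (secF V).map (ΔΦ.δ Sx hS p (p + 1) rfl) := by
  let T : RDer.SESRes Sx :=
    Horseshoe.sesRes hS (injectiveResolution Sx.X₁) (injectiveResolution Sx.X₃)
  rw [ΔΨ.δ_eq Sx hS T, ΔΦ.δ_eq Sx hS T]
  exact edgeI_delta f V Sx T p

end Groth.Agent.Lib.Helper1.QcqsLoc
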