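import Groth.Agent.Lib.Helper1.QcqsLoc.EdgeDelta

/-!
# The edge map in degree zero (helper1)
-/

set_option autoImplicit false
universe u v w v' w'
open CategoryTheory CategoryTheory.Limits AlgebraicGeometry TopologicalSpace Opposite
  HomologicalComplex

namespace Groth.Agent.Lib.Helper1.QcqsLoc

open Groth.Agent.Lib.Helper1.CohLoc Groth.Agent.Lib.Helper17.AbHomology

section general

variable {C : Type w} [Category.{v} C] [Abelian C] {D : Type w'} [Category.{v'} D] [Abelian D]
  (Φ : C ⥤ D) [Φ.Additive] (G : D ⥤ AddCommGrpCat.{u}) [G.Additive] [PreservesFiniteLimits G]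

omit [Abelian C] [Φ.Additive] in
theorem toRDZ_kap_aux (K : CochainComplex D ℕ) {A : D} (t : G.obj A ⟶ (GC K G).cycles 0)
    (t' : A ⟶ K.cycles 0) (ht : t ≫ (GC K G).iCycles 0 = G.map (t' ≫ K.iCycles 0)) :
    t ≫ (GC K G).homologyπ 0 ≫ kap K G 0 = G.map (t' ≫ K.homologyπ 0) := by
  have h : t = G.map t' ≫ cycCmp K G 0 := by
    rw [← cancel_mono ((GC K G).iCycles 0), Category.assoc, cycCmp_i]
    exact ht.trans (G.map_comp _ _)
  rw [h, Category.assoc, cycCmp_π_kap, ← G.map_comp]

theorem toRDZ_kap {X : C} (I : InjectiveResolution X) :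
    I.toRightDerivedZero' (Φ ⋙ G) ≫
        (GC ((Φ.mapHomologicalComplex (ComplexShape.up ℕ)).obj I.cocomplex) G).homologyπ 0 ≫
          kap ((Φ.mapHomologicalComplex (ComplexShape.up ℕ)).obj I.cocomplex) G 0 =
      G.map (I.toRightDerivedZero' Φ ≫
        ((Φ.mapHomologicalComplex (ComplexShape.up ℕ)).obj I.cocomplex).homologyπ 0) :=
  toRDZ_kap_aux G ((Φ.mapHomologicalComplex (ComplexShape.up ℕ)).obj I.cocomplex)
    (I.toRightDerivedZero' (Φ ⋙ G)) (I.toRightDerivedZero' Φ) (by
      rw [InjectiveResolution.toRightDerivedZero'_comp_iCycles]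
      exact I.toRightDerivedZero'_comp_iCycles (Φ ⋙ G))

/-- abstract bookkeeping -/
theorem edge_zero_aux {C' D' : Type*} [Category C'] [Category D'] (G : C' ⥤ D')
    {Z H R : D'} {A' Z' H' R' : C'}
    (a : G.obj A' ⟶ Z) (π : Z ⟶ H) (i : R ≅ H) (k : H ⟶ G.obj H') (j : R' ≅ H')
    (a' : A' ⟶ Z') (π' : Z' ⟶ H')
    (key : a ≫ π ≫ k = G.map (a' ≫ π')) :
    (a ≫ π ≫ i.inv) ≫ (i.hom ≫ k ≫ G.map j.inv) = G.map (a' ≫ π' ≫ j.inv) := by
  simp only [Category.assoc, Iso.inv_hom_id_assoc]
  rw [reassoc_of% key, ← G.map_comp]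
  simp only [Category.assoc]

end general

section scheme

variable {X S : Scheme.{u}} (f : X ⟶ S) [HasInjectiveResolutions X.Modules] (V : S.Opens)

omit [HasInjectiveResolutions X.Modules] in
theorem secF_preimage_eq :
    secF (f ⁻¹ᵁ V) = Scheme.Modules.pushforward f ⋙ secF V := rfl

/-- the edge map in degree zero -/
theorem edgeI_zero {F : X.Modules} (I : InjectiveResolution F) :
    (secF (f ⁻¹ᵁ V)).toRightDerivedZero.app F ≫ edgeI f V I 0 =
      (secF V).map ((Scheme.Modules.pushforward f).toRightDerivedZero.app F) := by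
  rw [I.toRightDerivedZero_eq (secF (f ⁻¹ᵁ V)), I.toRightDerivedZero_eq (Scheme.Modules.pushforward f)]
  have key := toRDZ_kap (Scheme.Modules.pushforward f) (secF V) I
  exact edge_zero_aux (secF V) (A' := (Scheme.Modules.pushforward f).obj F)
    (Z := (GC (pushC f I.cocomplex) (secF V)).cycles 0)
    (H := (GC (pushC f I.cocomplex) (secF V)).homology 0)
    (Z' := (pushC f I.cocomplex).cycles 0) (H' := (pushC f I.cocomplex).homology 0)
    (I.toRightDerivedZero' (secF (f ⁻¹ᵁ V)))
    ((GC (pushC f I.cocomplex) (secF V)).homologyπ 0)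
    (I.isoRightDerivedObj (secF (f ⁻¹ᵁ V)) 0) (kap (pushC f I.cocomplex) (secF V) 0)
    (I.isoRightDerivedObj (Scheme.Modules.pushforward f) 0)
    (I.toRightDerivedZero' (Scheme.Modules.pushforward f))
    ((pushC f I.cocomplex).homologyπ 0) key

theorem edge_zero (F : X.Modules) :
    (secF (f ⁻¹ᵁ V)).toRightDerivedZero.app F ≫ edge f V F 0 =
      (secF V).map ((Scheme.Modules.pushforward f).toRightDerivedZero.app F) :=
  edgeI_zero f V _

end scheme

end Groth.Agent.Lib.Helper1.QcqsLoc
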