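import Groth.Agent.Lib.Helper1.QcqsLoc.EdgeDelta
import Groth.Agent.Lib.Helper33.DeltaPrecomp
import Groth.Agent.Lib.Lead.SectCmp
import Groth.Agent.Lib.Helper32.OpenKInj
import Groth.Agent.Lib.Helper1.ShCohTop
import Groth.Agent.Lib.Helper83.ModAcyclic
import Groth.Agent.S0864
import Groth.Prelude.Def_CohCmp

/-!
# The Ext model `F ↦ H^•(U, F|_U)` as a universal delta-functor on `X.Modules` and its comparison
with the right derived functors of `Γ(U, -)` (helper1)
-/

set_option autoImplicit false
universe u
open CategoryTheory CategoryTheory.Limits AlgebraicGeometry TopologicalSpace Opposite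
  HomologicalComplex

namespace Groth.Agent.Lib.Helper1.QcqsLoc

open Groth.Agent.Lib.Helper33.ExtDelta Groth.Agent.Lib.Helper83

variable {X : Scheme.{u}} (U : X.Opens)

open Groth.Agent.Lib.Helper83.ModCoh Groth.Agent.Lib.Lead.SectCmp in
instance preservesFiniteLimits_toAbOn : PreservesFiniteLimits (CohCmp.toAbOn X U) := by
  have h1 : PreservesFiniteLimits (SheafOfModules.toSheaf (U : Scheme.{u}).ringCatSheaf :
      (U : Scheme.{u}).Modules ⥤ _) := inferInstance
  exact @comp_preservesFiniteLimits _ _ _ _ _ _ (Scheme.Modules.restrictFunctor U.ι) _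
    inferInstance h1

open Groth.Agent.Lib.Helper83.ModCoh Groth.Agent.Lib.Lead.SectCmp in
instance preservesFiniteColimits_toAbOn : PreservesFiniteColimits (CohCmp.toAbOn X U) := by
  have h2 : PreservesFiniteColimits (SheafOfModules.toSheaf (U : Scheme.{u}).ringCatSheaf :
      (U : Scheme.{u}).Modules ⥤ _) := inferInstance
  exact @comp_preservesFiniteColimits _ _ _ _ _ _ (Scheme.Modules.restrictFunctor U.ι) _
    inferInstance h2

/-- restriction to an open preserves injective modules -/
theorem injective_restrict (J : X.Modules) [Injective J] :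
    Injective ((Scheme.Modules.restrictFunctor U.ι).obj J) := by
  have := Groth.Agent.Lib.Helper32.OpenKInj.preservesFiniteLimits_extZero U
  have hinj : (Scheme.Modules.restrictFunctor U.ι).PreservesInjectiveObjects :=
    Functor.preservesInjectiveObjects_of_adjunction_of_preservesMonomorphisms
      (CxOX.extZeroAdj U.ι)
  exact (Scheme.Modules.restrictFunctor U.ι).injective_obj J

/-- higher cohomology over an open of an injective module vanishes -/
theorem subsingleton_HHon_of_injective (J : X.Modules) [Injective J] (p : ℕ) :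
    Subsingleton (Coh.HHon X J U (p + 1)) := by
  have hJ := injective_restrict U J
  have hJ' : Injective (C := SheafOfModules.{u} (U : Scheme.{u}).ringCatSheaf)
      ((Scheme.Modules.restrictFunctor U.ι).obj J) := hJ
  have hac := @Groth.Agent.Lib.Helper83.ModAcyclic.isTotallyAcyclic_toSheaf_of_injective
    _ _ _ (U : Scheme.{u}).ringCatSheaf ((Scheme.Modules.restrictFunctor U.ι).obj J) hJ'
  have h := Groth.Agent.S0864.result _ hac (⊤ : (U : Scheme.{u}).Opens) p
  exact (Groth.Agent.Lib.Helper1.HUTopEquivH (X := (U : Scheme.{u}).toTopCat)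
    (Coh.toAb (J.restrict U.ι)) (p + 1)).symm.toEquiv.subsingleton

/-- the constant sheaf `ℤ` on `U` -/
noncomputable abbrev ZU : CohTop.Ab (U : Scheme.{u}) := CohTop.const (U : Scheme.{u}) (ULift.{u} ℤ)

/-- the Ext model: `F ↦ H^•(U, F|_U)` as a delta-functor on `X.Modules` -/
noncomputable def TX : DeltaF.CohDeltaFunctor X.Modules AddCommGrpCat.{u} ℕ :=
  precompDelta (CohCmp.toAbOn X U) (extDelta.{u} (ZU U))

lemma TX_isUniversal : (TX U).IsUniversal := by
  apply Groth.Agent.S6773.result
  rw [Groth.Agent.S14349.result]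
  intro n I hI
  have := subsingleton_HHon_of_injective U I n
  exact AddCommGrpCat.isZero_of_subsingleton (AddCommGrpCat.of (Coh.HHon X I U (n + 1)))

variable [HasInjectiveResolutions X.Modules]

/-- the derived-functor model -/
noncomputable def UX : DeltaF.CohDeltaFunctor X.Modules AddCommGrpCat.{u} ℕ :=
  (derivedLES (secF U)).toCohDeltaFunctor

lemma UX_isUniversal : (UX U).IsUniversal := Groth.Agent.S16465.result _ _

/-- sections as degree-zero cohomology, as a natural isomorphism -/
noncomputable def sectIso : secF U ≅ (TX U).F 0 :=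
  NatIso.ofComponents (fun F => (CohPull.sectH0 F U).toAddCommGrpIso) (by
    intro F G ψ
    ext s
    change CohPull.sectH0 G U (ψ.app U s) =
      Sheaf.H.map ((CohCmp.toAbOn X U).map ψ) 0 (CohPull.sectH0 F U s)
    refine Eq.trans ?_ (Sheaf.H.equiv₀_symm_naturality (hT := isTerminalTop)
      ((CohCmp.toAbOn X U).map ψ) _).symm
    refine congrArg (Sheaf.H.equiv₀ (Coh.toAb (G.restrict U.ι))
      (isTerminalTop : IsTerminal (⊤ : (U : Scheme.{u}).Opens))).symm ?_
    have hn := ((SheafOfModules.toSheaf X.ringCatSheaf).map ψ).hom.naturality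
      (eqToIso U.ι_image_top).op.hom
    exact (congrArg (fun k => k.hom s) hn).symm)

end Groth.Agent.Lib.Helper1.QcqsLoc
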