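import Groth.Agent.Lib.Helper1.QcqsLoc.MV
import Groth.Agent.Lib.Helper83.ModCech

/-!
# Injective `O_X`-modules are flasque, hence `MVGood` (helper1)
-/

set_option autoImplicit false
universe u
open CategoryTheory CategoryTheory.Limits AlgebraicGeometry TopologicalSpace Opposite

namespace Groth.Agent.Lib.Helper1.QcqsLoc

variable {X : Scheme.{u}}

open Groth.Agent.Lib.Helper83.ModCech in
/-- restriction maps of an injective module are surjective -/
theorem rs_surjective_of_injective (J : X.Modules) [hJ : Injective J] {U V : X.Opens} (h : V ≤ U) :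
    Function.Surjective (rs J h) := by
  intro s
  have hJ' : Injective (C := SheafOfModules.{u} X.ringCatSheaf) J := hJ
  let J' : SheafOfModules.{u} X.ringCatSheaf := J
  let a : V ⟶ U := homOfLE h
  have hmono : Mono (yoneda.map a) := by
    rw [NatTrans.mono_iff_mono_app]
    intro W
    rw [mono_iff_injective]
    intro x y _
    exact Subsingleton.elim (α := (unop W ⟶ V)) x y
  let g' : (L X.ringCatSheaf).obj (yoneda.obj V) ⟶ J' := (secEquiv X.ringCatSheaf J' V).symm s
  let g : (L X.ringCatSheaf).obj (yoneda.obj U) ⟶ J' :=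
    Injective.factorThru g' ((L X.ringCatSheaf).map (yoneda.map a))
  have hg : (L X.ringCatSheaf).map (yoneda.map a) ≫ g = g' := Injective.comp_factorThru _ _
  refine ⟨secEquiv X.ringCatSheaf J' U g, ?_⟩
  have := secEquiv_naturality X.ringCatSheaf J' a g
  rw [hg] at this
  change J'.val.map a.op (secEquiv X.ringCatSheaf J' U g) = s
  rw [← this]
  exact Equiv.apply_symm_apply _ s

theorem mvGood_of_injective (J : X.Modules) [Injective J] : MVGood J := by
  intro U V s
  obtain ⟨a, ha⟩ := rs_surjective_of_injective J (inf_le_left : U ⊓ V ≤ U) s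
  exact ⟨a, 0, by rw [map_zero, sub_zero, ha]⟩

end Groth.Agent.Lib.Helper1.QcqsLoc
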