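import Groth.Agent.Lib.Helper1.QcqsLoc.PushHL
import Groth.Agent.Lib.Helper1.ShCohTop
import Groth.Agent.S11319

/-!
# `H^q(X, M) ≃ Γ(S, R^q f_* M)` for `S` affine, `f` qcqs, `M` quasi-coherent (helper1)
-/

set_option autoImplicit false
universe u
open CategoryTheory CategoryTheory.Limits AlgebraicGeometry TopologicalSpace Opposite
  HomologicalComplex

namespace Groth.Agent.Lib.Helper1.QcqsLoc

open Groth.Agent.Lib.Helper1.CohLoc Groth.Agent.Lib.Helper17.AbHomology

variable {X S : Scheme.{u}} (f : X ⟶ S)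

/-- `H^q(X, M) ≃ H^q(Γ(X, I))` for an injective resolution `I` of `M` in `X.Modules`. -/
theorem nonempty_HH_addEquiv_homology [HasInjectiveResolutions X.Modules] (M : X.Modules)
    (I : InjectiveResolution M) (q : ℕ) :
    Nonempty (Coh.HH X M q ≃+ ((GC I.cocomplex (secF (⊤ : X.Opens))).homology q :
      AddCommGrpCat.{u})) := by
  obtain ⟨e₁⟩ := nonempty_secF_rightDerived_iso (⊤ : X.Opens) M q
  obtain ⟨e₂⟩ := nonempty_ΓAb_rightDerived_iso (⊤ : X.Opens) (Coh.toAb M) q
  have e₃ := I.isoRightDerivedObj (secF (⊤ : X.Opens)) q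
  exact ⟨(Groth.Agent.Lib.Helper1.HUTopEquivH (X := X.toTopCat) (Coh.toAb M) q).symm.trans
    (e₃.symm ≪≫ e₁ ≪≫ e₂).symm.addCommGroupIsoToAddEquiv⟩

/-- **Global sections of the higher direct images over an affine base.** -/
theorem nonempty_HH_addEquiv_sections_rightDerived [QuasiCompact f] [QuasiSeparated f]
    [IsAffine S] [HasInjectiveResolutions X.Modules] (M : X.Modules) [M.IsQuasicoherent] (q : ℕ) :
    Nonempty (Coh.HH X M q ≃+ Γ(((Scheme.Modules.pushforward f).rightDerived q).obj M,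
      (⊤ : S.Opens))) := by
  let I := injectiveResolution M
  obtain ⟨e₁⟩ := nonempty_HH_addEquiv_homology M I q
  have hbij := kap_bijective_of_isAffineOpen (pushC f I.cocomplex) q (hl_pushC f M I q)
    (isAffineOpen_top S)
  let e₂ : ((GC I.cocomplex (secF (⊤ : X.Opens))).homology q : AddCommGrpCat.{u}) ≃+
      Γ((pushC f I.cocomplex).homology q, (⊤ : S.Opens)) :=
    AddEquiv.ofBijective (kap (pushC f I.cocomplex) (secF (⊤ : S.Opens)) q).hom hbij
  have e₃ := (secF (⊤ : S.Opens)).mapIso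
    (I.isoRightDerivedObj (Scheme.Modules.pushforward f) q).symm
  exact ⟨(e₁.trans e₂).trans e₃.addCommGroupIsoToAddEquiv⟩

end Groth.Agent.Lib.Helper1.QcqsLoc
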