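import Mathlib
import Groth.Agent.Lib.Helper17.AbHomology
import Groth.Agent.Lib.Helper1.CohLoc.Homology

/-!
# Homology of `G(K)` for additive functors `G : C ⥤ Ab` and a fixed cochain complex `K` (helper1)

`Hm K τ p : H^p(G K) ⟶ H^p(G' K)` for a natural transformation `τ : G ⟶ G'`, its functoriality
and additivity; the long exact sequence attached to `G₁ ⟶ G₂ ⟶ G₃` which is short exact on the
terms of `K`, in elementwise form, and the naturality of its connecting map.
-/

set_option autoImplicit false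
universe u v w
open CategoryTheory CategoryTheory.Limits HomologicalComplex

namespace Groth.Agent.Lib.Helper1.QcqsLoc

variable {C : Type w} [Category.{v} C] [Abelian C] (K : CochainComplex C ℕ)

/-- the complex `G(K)` -/
noncomputable abbrev GC (G : C ⥤ AddCommGrpCat.{u}) [G.Additive] :
    CochainComplex AddCommGrpCat.{u} ℕ :=
  (G.mapHomologicalComplex (ComplexShape.up ℕ)).obj K

section

variable {G G' G'' : C ⥤ AddCommGrpCat.{u}} [G.Additive] [G'.Additive] [G''.Additive]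

/-- the chain map `G(K) ⟶ G'(K)` induced by `τ : G ⟶ G'` -/
noncomputable abbrev mapC (τ : G ⟶ G') : GC K G ⟶ GC K G' :=
  (NatTrans.mapHomologicalComplex τ (ComplexShape.up ℕ)).app K

/-- the induced map on homology -/
noncomputable abbrev Hm (τ : G ⟶ G') (p : ℕ) : (GC K G).homology p ⟶ (GC K G').homology p :=
  homologyMap (mapC K τ) p

lemma mapC_comp (τ : G ⟶ G') (σ : G' ⟶ G'') : mapC K (τ ≫ σ) = mapC K τ ≫ mapC K σ := by
  ext n
  rfl

lemma mapC_id : mapC K (𝟙 G) = 𝟙 _ := by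
  ext n
  rfl

lemma mapC_add (τ σ : G ⟶ G') : mapC K (τ + σ) = mapC K τ + mapC K σ := by
  ext n
  rfl

lemma mapC_sub (τ σ : G ⟶ G') : mapC K (τ - σ) = mapC K τ - mapC K σ := by
  ext n
  rfl

lemma mapC_zero : mapC K (0 : G ⟶ G') = 0 := by
  ext n
  rfl

lemma Hm_comp (τ : G ⟶ G') (σ : G' ⟶ G'') (p : ℕ) : Hm K (τ ≫ σ) p = Hm K τ p ≫ Hm K σ p := by
  unfold Hm
  rw [mapC_comp, homologyMap_comp]

lemma Hm_comp_apply (τ : G ⟶ G') (σ : G' ⟶ G'') (p : ℕ) (x : (GC K G).homology p) :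
    (Hm K (τ ≫ σ) p).hom x = (Hm K σ p).hom ((Hm K τ p).hom x) := by
  rw [Hm_comp]
  rfl

lemma Hm_id (p : ℕ) : Hm K (𝟙 G) p = 𝟙 _ := by
  unfold Hm
  rw [mapC_id, homologyMap_id]

lemma Hm_id_apply (p : ℕ) (x : (GC K G).homology p) : (Hm K (𝟙 G) p).hom x = x := by
  rw [Hm_id]
  rfl

lemma Hm_add (τ σ : G ⟶ G') (p : ℕ) : Hm K (τ + σ) p = Hm K τ p + Hm K σ p := by
  unfold Hm
  rw [mapC_add, homologyMap_add]

lemma Hm_sub (τ σ : G ⟶ G') (p : ℕ) : Hm K (τ - σ) p = Hm K τ p - Hm K σ p := by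
  unfold Hm
  rw [mapC_sub, homologyMap_sub]

lemma Hm_zero (p : ℕ) : Hm K (0 : G ⟶ G') p = 0 := by
  unfold Hm
  rw [mapC_zero, homologyMap_zero]

lemma Hm_congr_apply {τ σ : G ⟶ G'} (h : τ = σ) (p : ℕ) (x : (GC K G).homology p) :
    (Hm K τ p).hom x = (Hm K σ p).hom x := by rw [h]

end

/-! ### The long exact sequence -/

section LES

variable {G₁ G₂ G₃ : C ⥤ AddCommGrpCat.{u}} [G₁.Additive] [G₂.Additive] [G₃.Additive]
  (α : G₁ ⟶ G₂) (β : G₂ ⟶ G₃) (w : α ≫ β = 0)

/-- the short complex of complexes `G₁(K) ⟶ G₂(K) ⟶ G₃(K)` -/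
noncomputable abbrev lesSC : ShortComplex (CochainComplex AddCommGrpCat.{u} ℕ) :=
  ShortComplex.mk (mapC K α) (mapC K β) (by rw [← mapC_comp, w, mapC_zero])

/-- the hypothesis: short exact on the terms of `K` -/
def ExactOn : Prop :=
  ∀ n : ℕ, (ShortComplex.mk (α.app (K.X n)) (β.app (K.X n))
    (by rw [← NatTrans.comp_app, w]; rfl)).ShortExact

variable {α β w}

lemma lesSC_shortExact (h : ExactOn K α β w) : (lesSC K α β w).ShortExact :=
  HomologicalComplex.shortExact_of_degreewise_shortExact _ (fun n => h n)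

/-- the connecting map -/
noncomputable def lesδ (h : ExactOn K α β w) (p : ℕ) :
    (GC K G₃).homology p ⟶ (GC K G₁).homology (p + 1) :=
  (lesSC_shortExact K h).δ p (p + 1) rfl

lemma lesδ_comp (h : ExactOn K α β w) (p : ℕ) (x : (GC K G₃).homology p) :
    (Hm K α (p + 1)).hom ((lesδ K h p).hom x) = 0 := by
  have := (lesSC_shortExact K h).δ_comp p (p + 1) rfl
  exact ConcreteCategory.congr_hom this x

lemma comp_lesδ (h : ExactOn K α β w) (p : ℕ) (x : (GC K G₂).homology p) :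
    (lesδ K h p).hom ((Hm K β p).hom x) = 0 := by
  have := (lesSC_shortExact K h).comp_δ p (p + 1) rfl
  exact ConcreteCategory.congr_hom this x

include w in
lemma Hm_α_β (p : ℕ) (x : (GC K G₁).homology p) :
    (Hm K β p).hom ((Hm K α p).hom x) = 0 := by
  rw [← Hm_comp_apply, Hm_congr_apply K w, Hm_zero]
  rfl

lemma les_exact₁ (h : ExactOn K α β w) (p : ℕ) (x : (GC K G₁).homology (p + 1))
    (hx : (Hm K α (p + 1)).hom x = 0) : ∃ y, (lesδ K h p).hom y = x := by
  have := (lesSC_shortExact K h).homology_exact₁ p (p + 1) rfl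
  rw [ShortComplex.ab_exact_iff] at this
  exact this x hx

lemma les_exact₂ (h : ExactOn K α β w) (p : ℕ) (x : (GC K G₂).homology p)
    (hx : (Hm K β p).hom x = 0) : ∃ y, (Hm K α p).hom y = x := by
  have := (lesSC_shortExact K h).homology_exact₂ p
  rw [ShortComplex.ab_exact_iff] at this
  exact this x hx

lemma les_exact₃ (h : ExactOn K α β w) (p : ℕ) (x : (GC K G₃).homology p)
    (hx : (lesδ K h p).hom x = 0) : ∃ y, (Hm K β p).hom y = x := by
  have := (lesSC_shortExact K h).homology_exact₃ p (p + 1) rfl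
  rw [ShortComplex.ab_exact_iff] at this
  exact this x hx

/-- naturality of the connecting map -/
lemma lesδ_naturality {G₁' G₂' G₃' : C ⥤ AddCommGrpCat.{u}} [G₁'.Additive] [G₂'.Additive]
    [G₃'.Additive] {α' : G₁' ⟶ G₂'} {β' : G₂' ⟶ G₃'} {w' : α' ≫ β' = 0}
    (h : ExactOn K α β w) (h' : ExactOn K α' β' w')
    (τ₁ : G₁ ⟶ G₁') (τ₂ : G₂ ⟶ G₂') (τ₃ : G₃ ⟶ G₃')
    (c₁ : α ≫ τ₂ = τ₁ ≫ α') (c₂ : β ≫ τ₃ = τ₂ ≫ β') (p : ℕ) (x : (GC K G₃).homology p) :
    (Hm K τ₁ (p + 1)).hom ((lesδ K h p).hom x) = (lesδ K h' p).hom ((Hm K τ₃ p).hom x) := by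
  let φ : lesSC K α β w ⟶ lesSC K α' β' w' :=
    { τ₁ := mapC K τ₁
      τ₂ := mapC K τ₂
      τ₃ := mapC K τ₃
      comm₁₂ := by
        change mapC K τ₁ ≫ mapC K α' = mapC K α ≫ mapC K τ₂
        rw [← mapC_comp, ← mapC_comp, c₁]
      comm₂₃ := by
        change mapC K τ₂ ≫ mapC K β' = mapC K β ≫ mapC K τ₃
        rw [← mapC_comp, ← mapC_comp, c₂] }
  have := HomologicalComplex.HomologySequence.δ_naturality φ (lesSC_shortExact K h)
    (lesSC_shortExact K h') p (p + 1) rfl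
  exact ConcreteCategory.congr_hom this x

end LES

/-! ### Degree zero -/

section DegreeZero

open Groth.Agent.Lib.Helper17.AbHomology

variable (L : CochainComplex AddCommGrpCat.{u} ℕ)

/-- in degree zero a class vanishes iff its cycle does -/
lemma homologyπ_zero_injective : Function.Injective (L.homologyπ 0) := by
  rw [injective_iff_map_eq_zero]
  intro z hz
  have hprev : (ComplexShape.up ℕ).prev 0 = 0 := by
    rw [ComplexShape.prev_eq_self]
    intro h
    simp at h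
  obtain ⟨b, hb⟩ := (homologyπ_eq_zero_iff L 0 0 hprev z).1 hz
  apply iCycles_injective L 0
  rw [← hb, map_zero]
  have : L.d 0 0 = 0 := L.shape _ _ (by simp)
  rw [this]
  rfl

/-- a degreewise injective transformation is injective on `H^0` -/
lemma Hm_zero_injective {G G' : C ⥤ AddCommGrpCat.{u}} [G.Additive] [G'.Additive] (τ : G ⟶ G')
    (hτ : Function.Injective (τ.app (K.X 0)).hom) : Function.Injective (Hm K τ 0).hom := by
  rw [injective_iff_map_eq_zero]
  intro x hx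
  obtain ⟨z, rfl⟩ := homologyπ_surjective (GC K G) 0 x
  have h1 : (GC K G').homologyπ 0 ((cyclesMap (mapC K τ) 0).hom z) = 0 := by
    rw [← Groth.Agent.Lib.Helper1.CohLoc.homologyMap_π]
    exact hx
  have h2 := homologyπ_zero_injective (GC K G') (h1.trans (map_zero _).symm)
  have h3 : ((mapC K τ).f 0).hom ((GC K G).iCycles 0 z) = 0 := by
    rw [← Groth.Agent.Lib.Helper1.CohLoc.iCycles_cyclesMap, h2, map_zero]
  have h4 : (GC K G).iCycles 0 z = 0 := hτ (h3.trans (map_zero _).symm)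
  have h5 : z = 0 := iCycles_injective (GC K G) 0 (h4.trans (map_zero _).symm)
  rw [h5, map_zero]

end DegreeZero

end Groth.Agent.Lib.Helper1.QcqsLoc
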