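import Groth.Agent.Lib.Helper1.QcqsLoc.StepMain

/-!
# Inductions on finite unions of opens for the localization property (helper1)
-/

set_option autoImplicit false
universe u
open CategoryTheory CategoryTheory.Limits AlgebraicGeometry TopologicalSpace Opposite

namespace Groth.Agent.Lib.Helper1.QcqsLoc

open Groth.Agent.Lib.Helper1.CohLoc

variable {X : Scheme.{u}} (K : CochainComplex X.Modules ℕ) {W₀ : X.Opens} (h : Γ(X, W₀))

/-- sections over the empty open vanish -/
lemma subsingleton_sections_of_eq_bot (M : X.Modules) {V : X.Opens} (hV : V = ⊥) :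
    Subsingleton Γ(M, V) := by
  let F : TopCat.Sheaf AddCommGrpCat.{u} X.toTopCat := ⟨M.presheaf, M.isSheaf⟩
  have ht : IsTerminal (F.1.obj (op V)) := F.isTerminalOfEqEmpty hV
  have hz : IsZero (F.1.obj (op V)) := by
    have : IsZero (⊤_ AddCommGrpCat.{u}) := by
      exact (isZero_zero AddCommGrpCat.{u}).of_iso
        (terminalIsTerminal.uniqueUpToIso (isZero_zero _).isTerminal)
    exact this.of_iso (ht.uniqueUpToIso terminalIsTerminal)
  exact AddCommGrpCat.subsingleton_of_isZero hz

/-- the cohomology over the empty open vanishes -/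
lemma subsingleton_homology_of_eq_bot {V : X.Opens} (hV : V = ⊥) (p : ℕ) :
    Subsingleton ((GC K (secF V)).homology p) := by
  have h1 : Subsingleton ((GC K (secF V)).X p) := subsingleton_sections_of_eq_bot (K.X p) hV
  have h2 : Subsingleton ((GC K (secF V)).cycles p) :=
    (Groth.Agent.Lib.Helper17.AbHomology.iCycles_injective (GC K (secF V)) p).subsingleton
  exact (Groth.Agent.Lib.Helper17.AbHomology.homologyπ_surjective (GC K (secF V)) p).subsingleton

theorem prLoc_of_eq_bot {V : X.Opens} (hV : V = ⊥) : PrLoc K h V := by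
  intro hV₀ p
  have : Subsingleton ((GC K (secF V)).homology p) := subsingleton_homology_of_eq_bot K hV p
  have : Subsingleton ((GC K (secF (V ⊓ X.basicOpen h))).homology p) :=
    subsingleton_homology_of_eq_bot K (by rw [hV, bot_inf_eq]) p
  exact isLoc_of_subsingleton _ _ _

/-- **Induction for families closed under intersections.** -/
theorem prLoc_finset_sup (hK : ∀ n, MVGood (K.X n)) (𝒜 : Set X.Opens)
    (hinf : ∀ A ∈ 𝒜, ∀ B ∈ 𝒜, A ⊓ B ∈ 𝒜) (hA : ∀ A ∈ 𝒜, PrLoc K h A) :
    ∀ (n : ℕ) (s : Finset X.Opens), s.card ≤ n → (∀ A ∈ s, A ∈ 𝒜) → PrLoc K h (s.sup id) := by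
  classical
  intro n
  induction n with
  | zero =>
    intro s hs _
    have : s = ∅ := Finset.card_eq_zero.1 (Nat.le_zero.1 hs)
    subst this
    exact prLoc_of_eq_bot K h (by simp)
  | succ n ih =>
    intro s hs hsA
    rcases s.eq_empty_or_nonempty with rfl | ⟨a, ha⟩
    · exact prLoc_of_eq_bot K h (by simp)
    · have hcard : (s.erase a).card ≤ n := by
        rw [Finset.card_erase_of_mem ha]
        omega
      have hsplit : s.sup id = a ⊔ (s.erase a).sup id := by
        conv_lhs => rw [← Finset.insert_erase ha]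
        rw [Finset.sup_insert]
        rfl
      rw [hsplit]
      refine prLoc_sup K h hK a _ (hA a (hsA a ha))
        (ih _ hcard fun A hA' => hsA A (Finset.mem_of_mem_erase hA')) ?_
      have himg : a ⊓ (s.erase a).sup id = ((s.erase a).image (fun B => a ⊓ B)).sup id := by
        rw [Finset.sup_image, Finset.sup_inf_distrib_left]
        rfl
      rw [himg]
      refine ih _ (Finset.card_image_le.trans hcard) fun A hA' => ?_
      obtain ⟨B, hB, rfl⟩ := Finset.mem_image.1 hA'
      exact hinf a (hsA a ha) B (hsA B (Finset.mem_of_mem_erase hB))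

/-- **Induction for compact opens of a quasi-separated open.** -/
theorem prLoc_of_isCompact (hK : ∀ n, MVGood (K.X n)) (hqs : IsQuasiSeparated (W₀ : Set X))
    (hbase : ∀ A : X.Opens, IsAffineOpen A → PrLoc K h A) (S : X.Opens)
    (hS : IsCompact (S : Set X)) : S ≤ W₀ → PrLoc K h S := by
  classical
  refine compact_open_induction_on (P := fun S => S ≤ W₀ → PrLoc K h S) S hS
    (fun _ => prLoc_of_eq_bot K h rfl) ?_
  intro S hS U ih hle
  have hSW : S ≤ W₀ := le_sup_left.trans hle
  have hUW : U.1 ≤ W₀ := le_sup_right.trans hle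
  refine prLoc_sup K h hK S U.1 (ih hSW) (hbase U.1 U.2) ?_
  -- `S ⊓ U` is a compact open of the affine `U`: a finite union of basic opens
  have hcomp : IsCompact ((S ⊓ U.1 : X.Opens) : Set X) :=
    hqs S.1 U.1.1 hSW S.2 hS hUW U.1.2 U.2.isCompact
  have hcov : ∀ x : (S ⊓ U.1 : X.Opens), ∃ f : Γ(X, U.1),
      X.basicOpen f ≤ S ⊓ U.1 ∧ x.1 ∈ X.basicOpen f := fun x =>
    U.2.exists_basicOpen_le x x.2.2
  choose f hf₁ hf₂ using hcov
  obtain ⟨t, ht⟩ := hcomp.elim_finite_subcover (fun x : (S ⊓ U.1 : X.Opens) => (X.basicOpen (f x) : Set X))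
    (fun x => (X.basicOpen (f x)).2) (fun x hx => Set.mem_iUnion.2 ⟨⟨x, hx⟩, hf₂ ⟨x, hx⟩⟩)
  have heq : S ⊓ U.1 = (t.image fun x => X.basicOpen (f x)).sup id := by
    apply le_antisymm
    · intro x hx
      obtain ⟨i, hi⟩ := Set.mem_iUnion.1 (ht hx)
      obtain ⟨hit, hxi⟩ := Set.mem_iUnion.1 hi
      have hle' : X.basicOpen (f i) ≤ (t.image fun x => X.basicOpen (f x)).sup id :=
        Finset.le_sup (f := id) (Finset.mem_image_of_mem _ hit)
      exact hle' hxi
    · refine Finset.sup_le fun A hA' => ?_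
      obtain ⟨i, -, rfl⟩ := Finset.mem_image.1 hA'
      exact hf₁ i
  rw [heq]
  refine prLoc_finset_sup K h hK {A | ∃ g : Γ(X, U.1), A = X.basicOpen g} ?_ ?_ _ _ le_rfl ?_
  · rintro _ ⟨g, rfl⟩ _ ⟨g', rfl⟩
    exact ⟨g * g', (X.basicOpen_mul g g').symm⟩
  · rintro _ ⟨g, rfl⟩
    exact hbase _ (U.2.basicOpen g)
  · intro A hA'
    obtain ⟨i, -, rfl⟩ := Finset.mem_image.1 hA'
    exact ⟨f i, rfl⟩

end Groth.Agent.Lib.Helper1.QcqsLoc
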