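import Groth.Agent.Lib.Helper1.QcqsLoc.Base
import Groth.Agent.Lib.Helper1.QcqsLoc.Flasque
import Groth.Agent.Lib.Helper1.QcqsLoc.Acyclic

/-!
# The localization property for an injective resolution of a quasi-coherent module (helper1)
-/

set_option autoImplicit false
universe u
open CategoryTheory CategoryTheory.Limits AlgebraicGeometry TopologicalSpace Opposite

namespace Groth.Agent.Lib.Helper1.QcqsLoc

open Groth.Agent.Lib.Helper1.CohLoc

variable {X : Scheme.{u}} (M : X.Modules)
  (I : InjectiveResolution M)

/-- the augmentation `M ⟶ I⁰` -/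
noncomputable abbrev augι : M ⟶ I.cocomplex.X 0 := I.ι.f 0

lemma augι_d : augι M I ≫ I.cocomplex.d 0 1 = 0 := I.ι_f_zero_comp_complex_d

instance : Mono (augι M I) := inferInstanceAs (Mono (I.ι.f 0))

lemma augι_exact : (ShortComplex.mk (augι M I) (I.cocomplex.d 0 1) (augι_d M I)).Exact :=
  ShortComplex.exact_of_f_is_kernel _ I.isLimitKernelFork

/-- **L1**: for a quasi-coherent module `M` with injective resolution `I`, a function `h` on a
quasi-separated open `W₀` and a quasi-compact open `V ≤ W₀`, the restriction
`H^p(V, I) → H^p(V ∩ D(h), I)` is a localization at `h`. -/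
theorem prLoc_injectiveResolution [HasInjectiveResolutions X.Modules] [M.IsQuasicoherent] {W₀ : X.Opens} (h : Γ(X, W₀))
    (hqs : IsQuasiSeparated (W₀ : Set X)) (V : X.Opens) (hV : IsCompact (V : Set X)) :
    PrLoc I.cocomplex h V := by
  intro hVW
  refine prLoc_of_isCompact I.cocomplex h (fun n => mvGood_of_injective _) hqs ?_ V hV hVW hVW
  intro A hA
  exact prLoc_of_isAffineOpen I.cocomplex (augι M I) (augι_d M I) h (augι_exact M I)
    (fun A hA p => subsingleton_homology_of_isAffineOpen M I A hA p) A hA

end Groth.Agent.Lib.Helper1.QcqsLoc
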