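import Groth.Agent.Lib.Helper1.QcqsLoc.Hm

/-!
# The comparison `H^p(G L) ⟶ G(H^p L)` for a left exact functor `G : C ⥤ Ab` (helper1)
-/

set_option autoImplicit false
universe u v w
open CategoryTheory CategoryTheory.Limits HomologicalComplex

namespace Groth.Agent.Lib.Helper1.QcqsLoc

open Groth.Agent.Lib.Helper1.CohLoc Groth.Agent.Lib.Helper17.AbHomology

variable {C : Type w} [Category.{v} C] [Abelian C] (L : CochainComplex C ℕ)
  (G : C ⥤ AddCommGrpCat.{u}) [G.Additive]

/-- the comparison `G(Z^p L) ⟶ Z^p(G L)` -/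
noncomputable def cycCmp (p : ℕ) : G.obj (L.cycles p) ⟶ (GC L G).cycles p :=
  (GC L G).liftCycles (G.map (L.iCycles p)) (p + 1) (by simp) (by
    change G.map (L.iCycles p) ≫ G.map (L.d p (p + 1)) = 0
    rw [← G.map_comp, L.iCycles_d, G.map_zero])

@[reassoc]
lemma cycCmp_i (p : ℕ) : cycCmp L G p ≫ (GC L G).iCycles p = G.map (L.iCycles p) :=
  (GC L G).liftCycles_i _ _ _ _

lemma cycCmp_bijective [PreservesFiniteLimits G] (p : ℕ) :
    Function.Bijective (cycCmp L G p).hom := by
  have hmono : Mono (G.map (L.iCycles p)) := inferInstance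
  have hinj : Function.Injective (G.map (L.iCycles p)).hom :=
    (AddCommGrpCat.mono_iff_injective _).1 hmono
  constructor
  · intro a b hab
    apply hinj
    have := congrArg (fun z => (GC L G).iCycles p z) hab
    have h1 := fun z => ConcreteCategory.congr_hom (cycCmp_i L G p) z
    exact (h1 a).symm.trans (this.trans (h1 b))
  · intro z
    have hex : (ShortComplex.mk (L.iCycles p) (L.d p (p + 1)) (L.iCycles_d p (p + 1))).Exact :=
      ShortComplex.exact_of_f_is_kernel _ (L.cyclesIsKernel p (p + 1) (by simp))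
    have hex' := hex.map_of_mono_of_preservesKernel G inferInstance inferInstance
    rw [ShortComplex.ab_exact_iff] at hex'
    obtain ⟨z', hz'⟩ := hex' ((GC L G).iCycles p z) (d_iCycles (GC L G) p z (p + 1))
    refine ⟨z', ?_⟩
    apply iCycles_injective (GC L G) p
    exact (ConcreteCategory.congr_hom (cycCmp_i L G p) z').trans hz'

instance isIso_cycCmp [PreservesFiniteLimits G] (p : ℕ) : IsIso (cycCmp L G p) :=
  (ConcreteCategory.isIso_iff_bijective _).2 (cycCmp_bijective L G p)

lemma toCycles_eq (i p : ℕ) :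
    (GC L G).toCycles i p = G.map (L.toCycles i p) ≫ cycCmp L G p := by
  have h1 : (GC L G).toCycles i p ≫ (GC L G).iCycles p = G.map (L.d i p) :=
    (GC L G).toCycles_i i p
  have h2 : (G.map (L.toCycles i p) ≫ cycCmp L G p) ≫ (GC L G).iCycles p = G.map (L.d i p) := by
    rw [Category.assoc, cycCmp_i]
    change G.map (L.toCycles i p) ≫ G.map (L.iCycles p) = G.map (L.d i p)
    rw [← G.map_comp, L.toCycles_i]
  exact (cancel_mono ((GC L G).iCycles p)).1 (h1.trans h2.symm)

variable [PreservesFiniteLimits G]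

/-- the map on cycles inducing the comparison -/
noncomputable def kapZ (p : ℕ) : (GC L G).cycles p ⟶ G.obj (L.homology p) :=
  inv (cycCmp L G p) ≫ G.map (L.homologyπ p)

lemma toCycles_kapZ (i p : ℕ) : (GC L G).toCycles i p ≫ kapZ L G p = 0 := by
  unfold kapZ
  rw [toCycles_eq]
  change (G.map (L.toCycles i p) ≫ cycCmp L G p) ≫ inv (cycCmp L G p) ≫
    G.map (L.homologyπ p) = 0
  rw [Category.assoc, IsIso.hom_inv_id_assoc, ← G.map_comp,
    L.toCycles_comp_homologyπ, G.map_zero]

/-- **The comparison** `H^p(G L) ⟶ G(H^p L)`. -/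
noncomputable def kap (p : ℕ) : (GC L G).homology p ⟶ G.obj (L.homology p) :=
  ((GC L G).homologyIsCokernel ((ComplexShape.up ℕ).prev p) p rfl).desc
    (CokernelCofork.ofπ (kapZ L G p) (toCycles_kapZ L G _ p))

@[reassoc]
lemma π_kap (p : ℕ) :
    (GC L G).homologyπ p ≫ kap L G p = inv (cycCmp L G p) ≫ G.map (L.homologyπ p) :=
  ((GC L G).homologyIsCokernel ((ComplexShape.up ℕ).prev p) p rfl).fac
    (CokernelCofork.ofπ (kapZ L G p) (toCycles_kapZ L G _ p)) WalkingParallelPair.one

@[reassoc]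
lemma cycCmp_π_kap (p : ℕ) :
    cycCmp L G p ≫ (GC L G).homologyπ p ≫ kap L G p = G.map (L.homologyπ p) := by
  rw [π_kap, IsIso.hom_inv_id_assoc]

/-- elementwise form -/
lemma kap_apply (p : ℕ) (z : G.obj (L.cycles p)) :
    (kap L G p).hom ((GC L G).homologyπ p ((cycCmp L G p).hom z)) =
      (G.map (L.homologyπ p)).hom z :=
  ConcreteCategory.congr_hom (cycCmp_π_kap L G p) z

variable {G} {G' : C ⥤ AddCommGrpCat.{u}} [G'.Additive] [PreservesFiniteLimits G']

omit [PreservesFiniteLimits G] [PreservesFiniteLimits G'] in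
@[reassoc]
lemma cycCmp_naturality (τ : G ⟶ G') (p : ℕ) :
    τ.app (L.cycles p) ≫ cycCmp L G' p = cycCmp L G p ≫ cyclesMap (mapC L τ) p := by
  rw [← cancel_mono ((GC L G').iCycles p), Category.assoc, Category.assoc, cycCmp_i,
    cyclesMap_i, cycCmp_i_assoc]
  exact (τ.naturality (L.iCycles p)).symm

/-- naturality of the comparison in the functor -/
lemma kap_naturality (τ : G ⟶ G') (p : ℕ) :
    kap L G p ≫ τ.app (L.homology p) = Hm L τ p ≫ kap L G' p := by
  rw [← cancel_epi ((GC L G).homologyπ p), ← cancel_epi (cycCmp L G p), cycCmp_π_kap_assoc]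
  have h1 : (GC L G).homologyπ p ≫ Hm L τ p =
      cyclesMap (mapC L τ) p ≫ (GC L G').homologyπ p := homologyπ_naturality _ _
  rw [reassoc_of% h1, ← cycCmp_naturality_assoc, cycCmp_π_kap]
  exact (τ.naturality (L.homologyπ p))

lemma kap_naturality_apply (τ : G ⟶ G') (p : ℕ) (x : (GC L G).homology p) :
    (τ.app (L.homology p)).hom ((kap L G p).hom x) = (kap L G' p).hom ((Hm L τ p).hom x) :=
  ConcreteCategory.congr_hom (kap_naturality L τ p) x

end Groth.Agent.Lib.Helper1.QcqsLoc
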