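import Groth.Agent.Lib.Helper1.QcqsLoc.SecModel
import Groth.Agent.Lib.Helper1.QcqsLoc.Hm

/-!
# Mayer–Vietoris for the complexes of sections (helper1)
-/

set_option autoImplicit false
universe u
open CategoryTheory CategoryTheory.Limits AlgebraicGeometry TopologicalSpace Opposite

namespace Groth.Agent.Lib.Helper1.QcqsLoc

variable {X : Scheme.{u}}

/-- restriction of sections of a module -/
noncomputable abbrev rs (M : X.Modules) {U V : X.Opens} (h : V ≤ U) : Γ(M, U) →+ Γ(M, V) :=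
  (M.presheaf.map (homOfLE h).op).hom

lemma rs_rs (M : X.Modules) {U V W : X.Opens} (h : V ≤ U) (h' : W ≤ V) (s : Γ(M, U)) :
    rs M h' (rs M h s) = rs M (h'.trans h) s := by
  have e : (homOfLE (h'.trans h)).op = (homOfLE h).op ≫ (homOfLE h').op := rfl
  change (M.presheaf.map (homOfLE h).op ≫ M.presheaf.map (homOfLE h').op).hom s = _
  rw [← M.presheaf.map_comp, ← e]

lemma rs_refl (M : X.Modules) (U : X.Opens) (s : Γ(M, U)) : rs M (le_refl U) s = s := by
  have e : (homOfLE (le_refl U)).op = 𝟙 (op U) := rfl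
  change (M.presheaf.map (homOfLE (le_refl U)).op).hom s = s
  rw [e, M.presheaf.map_id]
  rfl

/-- two sections agreeing on the intersection glue -/
theorem glue2 (M : X.Modules) (U V : X.Opens) (s : Γ(M, U)) (t : Γ(M, V))
    (h : rs M (inf_le_left : U ⊓ V ≤ U) s = rs M (inf_le_right : U ⊓ V ≤ V) t) :
    ∃ g : Γ(M, U ⊔ V), rs M le_sup_left g = s ∧ rs M le_sup_right g = t := by
  let F : TopCat.Sheaf AddCommGrpCat.{u} X.toTopCat := ⟨M.presheaf, M.isSheaf⟩
  let f : Fin 2 → Opens X := ![U, V]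
  let sf : (i : Fin 2) → M.presheaf.obj (op (f i))
    | 0 => s
    | 1 => t
  have hcompat : TopCat.Presheaf.IsCompatible F.1 f sf := by
    have h01 : M.presheaf.map (Opens.infLELeft (f 0) (f 1)).op (sf 0) =
        M.presheaf.map (Opens.infLERight (f 0) (f 1)).op (sf 1) := h
    simp only [TopCat.Presheaf.IsCompatible, Fin.forall_fin_two]
    refine ⟨⟨rfl, h01⟩, ?_, rfl⟩
    have hle : V ⊓ U ≤ U ⊓ V := le_of_eq (inf_comm _ _)
    have e1 : M.presheaf.map (Opens.infLELeft (f 1) (f 0)).op (sf 1) =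
        rs M hle (rs M (inf_le_right : U ⊓ V ≤ V) t) := by
      rw [rs_rs]
      rfl
    have e2 : M.presheaf.map (Opens.infLERight (f 1) (f 0)).op (sf 0) =
        rs M hle (rs M (inf_le_left : U ⊓ V ≤ U) s) := by
      rw [rs_rs]
      rfl
    rw [e1, e2, h]
  obtain ⟨gl, hgl, -⟩ := TopCat.Sheaf.existsUnique_gluing F f sf hcompat
  have hle : U ⊔ V ≤ iSup f := sup_le (le_iSup f 0) (le_iSup f 1)
  refine ⟨rs M hle gl, ?_, ?_⟩
  · rw [rs_rs]
    exact hgl 0
  · rw [rs_rs]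
    exact hgl 1

/-- a section vanishing on two opens covering `T` vanishes -/
theorem eq_zero_of_rs2 (M : X.Modules) {P Q T : X.Opens} (hP : P ≤ T) (hQ : Q ≤ T)
    (hT : T ≤ P ⊔ Q) (x : Γ(M, T)) (h1 : rs M hP x = 0) (h2 : rs M hQ x = 0) : x = 0 := by
  let F : TopCat.Sheaf AddCommGrpCat.{u} X.toTopCat := ⟨M.presheaf, M.isSheaf⟩
  refine TopCat.Sheaf.eq_of_locally_eq₂ F (homOfLE hP) (homOfLE hQ) hT x 0 ?_ ?_
  · rw [map_zero]
    exact h1
  · rw [map_zero]
    exact h2

/-- The Mayer–Vietoris surjectivity property of a module (true for flasque, e.g. injective,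
modules). -/
def MVGood (J : X.Modules) : Prop :=
  ∀ (U V : X.Opens) (s : Γ(J, U ⊓ V)), ∃ (a : Γ(J, U)) (b : Γ(J, V)),
    rs J inf_le_left a - rs J inf_le_right b = s

section Exact

variable {W U V Z : X.Opens} (hU : U ≤ W) (hV : V ≤ W) (hZU : Z ≤ U) (hZV : Z ≤ V)

lemma mvα_app_apply (M : X.Modules) (s : Γ(M, W)) :
    ((mvα hU hV).app M).hom s = ((rs M hU s, rs M hV s) : Γ(M, U) × Γ(M, V)) := rfl

lemma mvβ_app_apply (M : X.Modules) (x : Γ(M, U) × Γ(M, V)) :
    ((mvβ hZU hZV).app M).hom x = rs M hZU x.1 - rs M hZV x.2 := rfl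

/-- Mayer–Vietoris short exact sequence of sections of an `MVGood` module -/
theorem mv_shortExact (J : X.Modules) (hJ : MVGood J) (hW : W ≤ U ⊔ V) (hZ : U ⊓ V ≤ Z) :
    (ShortComplex.mk ((mvα hU hV).app J) ((mvβ hZU hZV).app J)
      (by rw [← NatTrans.comp_app, mvα_mvβ]; rfl)).ShortExact := by
  have hZeq : Z = U ⊓ V := le_antisymm (le_inf hZU hZV) hZ
  subst hZeq
  refine { exact := ?_, mono_f := ?_, epi_g := ?_ }
  · rw [ShortComplex.ab_exact_iff]
    intro x hx
    obtain ⟨a, b⟩ := x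
    have hab : rs J inf_le_left a = rs J inf_le_right b := by
      have : rs J hZU a - rs J hZV b = 0 := hx
      exact sub_eq_zero.1 this
    obtain ⟨g, hg1, hg2⟩ := glue2 J U V a b hab
    refine ⟨rs J hW g, ?_⟩
    change ((rs J hU (rs J hW g), rs J hV (rs J hW g)) : Γ(J, U) × Γ(J, V)) = (a, b)
    rw [rs_rs, rs_rs, hg1, hg2]
  · rw [AddCommGrpCat.mono_iff_injective, injective_iff_map_eq_zero]
    intro s hs
    have h1 : rs J hU s = 0 := congrArg Prod.fst hs
    have h2 : rs J hV s = 0 := congrArg Prod.snd hs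
    exact eq_zero_of_rs2 J hU hV hW s h1 h2
  · rw [AddCommGrpCat.epi_iff_surjective]
    intro s
    obtain ⟨a, b, hab⟩ := hJ U V s
    exact ⟨(a, b), hab⟩

end Exact

end Groth.Agent.Lib.Helper1.QcqsLoc
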