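import Groth.Agent.Lib.Helper1.QcqsLoc.Kappa
import Groth.Agent.Lib.Helper1.QcqsLoc.MV
import Groth.Agent.Lib.Lead.SectCmp

/-!
# The comparison `H^p(Γ(V, L)) ⟶ Γ(V, H^p L)` is locally bijective (helper1)
-/

set_option autoImplicit false
universe u
open CategoryTheory CategoryTheory.Limits AlgebraicGeometry TopologicalSpace Opposite
  HomologicalComplex

namespace Groth.Agent.Lib.Helper1.QcqsLoc

open Groth.Agent.Lib.Helper1.CohLoc Groth.Agent.Lib.Helper17.AbHomology

variable {X : Scheme.{u}} (L : CochainComplex X.Modules ℕ) (p : ℕ)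

/-- the comparison is locally surjective -/
theorem kap_locally_surjective (V : X.Opens) (y : Γ(L.homology p, V)) (x : X) (hx : x ∈ V) :
    ∃ (W : X.Opens) (hWV : W ≤ V), x ∈ W ∧ ∃ t : (GC L (secF W)).homology p,
      (kap L (secF W) p).hom t = rs (L.homology p) hWV y := by
  obtain ⟨W, hWV, hxW, z', hz'⟩ :=
    Groth.Agent.Lib.Lead.SectCmp.exists_local_lift (L.homologyπ p) V y x hx
  refine ⟨W, hWV, hxW, (GC L (secF W)).homologyπ p ((cycCmp L (secF W) p).hom z'), ?_⟩
  rw [kap_apply]
  exact hz'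

/-- a section of the cycles whose class vanishes is locally a boundary -/
theorem exists_local_boundary (i : ℕ) (hi : (ComplexShape.up ℕ).prev p = i) (V : X.Opens)
    (z : Γ(L.cycles p, V)) (hz : (L.homologyπ p).app V z = 0) (x : X) (hx : x ∈ V) :
    ∃ (W : X.Opens) (hWV : W ≤ V), x ∈ W ∧ ∃ w : Γ(L.X i, W),
      (L.toCycles i p).app W w = rs (L.cycles p) hWV z := by
  let S : ShortComplex X.Modules :=
    ShortComplex.mk (L.toCycles i p) (L.homologyπ p) (L.toCycles_comp_homologyπ i p)
  have hS : S.Exact := ShortComplex.exact_of_g_is_cokernel _ (L.homologyIsCokernel i p hi)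
  have hepi : Epi (kernel.lift S.g S.f S.zero) := S.exact_iff_epi_kernel_lift.1 hS
  -- lift `z` to the kernel
  let T : ShortComplex X.Modules :=
    ShortComplex.mk (kernel.ι (L.homologyπ p)) (L.homologyπ p) (kernel.condition _)
  have hT : T.Exact := ShortComplex.exact_of_f_is_kernel _ (kernelIsKernel _)
  have hT' := hT.map_of_mono_of_preservesKernel (secF V)
    (inferInstanceAs (Mono (kernel.ι (L.homologyπ p)))) inferInstance
  rw [ShortComplex.ab_exact_iff] at hT'
  obtain ⟨z'', hz''⟩ := hT' z hz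
  obtain ⟨W, hWV, hxW, w, hw⟩ :=
    Groth.Agent.Lib.Lead.SectCmp.exists_local_lift (kernel.lift S.g S.f S.zero) V z'' x hx
  refine ⟨W, hWV, hxW, w, ?_⟩
  have h1 : L.toCycles i p = kernel.lift S.g S.f S.zero ≫ kernel.ι (L.homologyπ p) :=
    (kernel.lift_ι _ _ _).symm
  have h2 : (L.toCycles i p).app W w =
      (kernel.ι (L.homologyπ p)).app W ((kernel.lift S.g S.f S.zero).app W w) := by
    rw [h1]
    rfl
  rw [h2, hw]
  have h3 : (kernel.ι (L.homologyπ p)).app V z'' = z := hz''
  rw [← h3]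
  exact Groth.Agent.Lib.Lead.SectCmp.app_map (kernel.ι (L.homologyπ p)) hWV z''

/-- the comparison is locally injective -/
theorem kap_locally_injective (V : X.Opens) (t : (GC L (secF V)).homology p)
    (ht : (kap L (secF V) p).hom t = 0) (x : X) (hx : x ∈ V) :
    ∃ (W : X.Opens) (hWV : W ≤ V), x ∈ W ∧ (Hm L (resT hWV) p).hom t = 0 := by
  obtain ⟨c, rfl⟩ := homologyπ_surjective (GC L (secF V)) p t
  obtain ⟨z, rfl⟩ := (cycCmp_bijective L (secF V) p).2 c
  rw [kap_apply] at ht
  obtain ⟨W, hWV, hxW, w, hw⟩ := exists_local_boundary L p _ rfl V z ht x hx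
  refine ⟨W, hWV, hxW, ?_⟩
  have e1 : (Hm L (resT hWV) p).hom ((GC L (secF V)).homologyπ p ((cycCmp L (secF V) p).hom z)) =
      (GC L (secF W)).homologyπ p
        ((cyclesMap (mapC L (resT hWV)) p).hom ((cycCmp L (secF V) p).hom z)) :=
    Groth.Agent.Lib.Helper1.CohLoc.homologyMap_π _ _ _
  have e2 : (cyclesMap (mapC L (resT hWV)) p).hom ((cycCmp L (secF V) p).hom z) =
      (cycCmp L (secF W) p).hom (((resT hWV).app (L.cycles p)).hom z) :=
    (ConcreteCategory.congr_hom (cycCmp_naturality L (resT hWV) p) z).symm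
  have e3 : ((resT hWV).app (L.cycles p)).hom z =
      ((secF W).map (L.toCycles _ p)).hom w := hw.symm
  have e4 : (cycCmp L (secF W) p).hom (((secF W).map (L.toCycles _ p)).hom w) =
      ((GC L (secF W)).toCycles _ p).hom w :=
    (ConcreteCategory.congr_hom (toCycles_eq L (secF W) _ p) w).symm
  rw [e1, e2, e3, e4]
  exact ConcreteCategory.congr_hom ((GC L (secF W)).toCycles_comp_homologyπ _ p) w

end Groth.Agent.Lib.Helper1.QcqsLoc
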