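import Groth.Agent.Lib.Helper1.QcqsLoc.Kappa

/-!
# Naturality of the comparison `H^p(G L) ⟶ G(H^p L)` in the complex `L`, and compatibility with
the connecting homomorphisms of a short exact sequence of complexes (helper1)
-/

set_option autoImplicit false
universe u v w
open CategoryTheory CategoryTheory.Limits HomologicalComplex

namespace Groth.Agent.Lib.Helper1.QcqsLoc

open Groth.Agent.Lib.Helper1.CohLoc Groth.Agent.Lib.Helper17.AbHomology

variable {C : Type w} [Category.{v} C] [Abelian C]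
  (G : C ⥤ AddCommGrpCat.{u}) [G.Additive]

section Nat

variable {L L' : CochainComplex C ℕ} (ψ : L ⟶ L')

/-- the chain map `G(L) ⟶ G(L')` -/
noncomputable abbrev GCmap : GC L G ⟶ GC L' G := (G.mapHomologicalComplex (ComplexShape.up ℕ)).map ψ

@[reassoc]
lemma cycCmp_naturality_L (p : ℕ) :
    G.map (cyclesMap ψ p) ≫ cycCmp L' G p = cycCmp L G p ≫ cyclesMap (GCmap G ψ) p := by
  rw [← cancel_mono ((GC L' G).iCycles p), Category.assoc, Category.assoc, cycCmp_i,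
    cyclesMap_i, cycCmp_i_assoc]
  change G.map (cyclesMap ψ p) ≫ G.map (L'.iCycles p) = G.map (L.iCycles p) ≫ G.map (ψ.f p)
  rw [← G.map_comp, ← G.map_comp, cyclesMap_i]

variable [PreservesFiniteLimits G]

/-- naturality of the comparison in the complex -/
lemma kap_naturality_L (p : ℕ) :
    homologyMap (GCmap G ψ) p ≫ kap L' G p = kap L G p ≫ G.map (homologyMap ψ p) := by
  rw [← cancel_epi ((GC L G).homologyπ p), ← cancel_epi (cycCmp L G p), cycCmp_π_kap_assoc]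
  have h1 : (GC L G).homologyπ p ≫ homologyMap (GCmap G ψ) p =
      cyclesMap (GCmap G ψ) p ≫ (GC L' G).homologyπ p := homologyπ_naturality _ _
  rw [reassoc_of% h1, ← cycCmp_naturality_L_assoc, cycCmp_π_kap, ← G.map_comp, ← G.map_comp,
    homologyπ_naturality]

end Nat

section Delta

variable [PreservesFiniteLimits G] {S : ShortComplex (CochainComplex C ℕ)} (hS : S.ShortExact)

include hS in
/-- auxiliary form: `δG` is any map with the characteristic property of the connecting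
homomorphism of `G S` -/
theorem δ_kap_aux (p : ℕ)
    (δG : (GC S.X₃ G).homology p ⟶ (GC S.X₁ G).homology (p + 1))
    (hsurj : Function.Surjective (G.map (S.g.f p)).hom)
    (H : ∀ {A' : AddCommGrpCat.{u}} (y₃ : A' ⟶ (GC S.X₃ G).X p)
      (hy₃ : y₃ ≫ (GC S.X₃ G).d p (p + 1) = 0) (y₂ : A' ⟶ (GC S.X₂ G).X p)
      (_ : y₂ ≫ G.map (S.g.f p) = y₃) (y₁ : A' ⟶ (GC S.X₁ G).X (p + 1))
      (_ : y₁ ≫ G.map (S.f.f (p + 1)) = y₂ ≫ (GC S.X₂ G).d p (p + 1))
      (hy₁' : y₁ ≫ (GC S.X₁ G).d (p + 1) (p + 1 + 1) = 0),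
      (GC S.X₃ G).liftCycles y₃ (p + 1) (by simp) hy₃ ≫ (GC S.X₃ G).homologyπ p ≫ δG =
        (GC S.X₁ G).liftCycles y₁ (p + 1 + 1) (by simp) hy₁' ≫
          (GC S.X₁ G).homologyπ (p + 1)) :
    δG ≫ kap S.X₁ G (p + 1) = kap S.X₃ G p ≫ G.map (hS.δ p (p + 1) rfl) := by
  -- degreewise exactness
  have hSj : (S.map (HomologicalComplex.eval C (ComplexShape.up ℕ) (p + 1))).ShortExact :=
    hS.map_of_exact _
  have hmono : Mono (S.map (HomologicalComplex.eval C (ComplexShape.up ℕ) (p + 1))).f :=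
    hSj.mono_f
  -- the object `A` of cochains of `X₂` whose image in `X₃` is a cocycle
  let A : C := kernel (S.X₂.d p (p + 1) ≫ S.g.f (p + 1))
  let x₂ : A ⟶ S.X₂.X p := kernel.ι _
  let x₃ : A ⟶ S.X₃.X p := x₂ ≫ S.g.f p
  have hx₃ : x₃ ≫ S.X₃.d p (p + 1) = 0 := by
    change (x₂ ≫ S.g.f p) ≫ S.X₃.d p (p + 1) = 0
    rw [Category.assoc, S.g.comm p (p + 1)]
    exact kernel.condition _
  let q : A ⟶ S.X₃.cycles p := S.X₃.liftCycles x₃ (p + 1) (by simp) hx₃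
  have hx₂d : (x₂ ≫ S.X₂.d p (p + 1)) ≫ S.g.f (p + 1) = 0 := by
    rw [Category.assoc]
    exact kernel.condition _
  let x₁ : A ⟶ S.X₁.X (p + 1) := hSj.exact.lift (x₂ ≫ S.X₂.d p (p + 1)) hx₂d
  have hx₁ : x₁ ≫ S.f.f (p + 1) = x₂ ≫ S.X₂.d p (p + 1) := hSj.exact.lift_f _ _
  have hcyc : x₁ ≫ S.X₁.d (p + 1) (p + 1 + 1) = 0 := by
    have hm : Mono (S.f.f (p + 1 + 1)) :=
      (hS.map_of_exact (HomologicalComplex.eval C (ComplexShape.up ℕ) (p + 1 + 1))).mono_f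
    rw [← cancel_mono (S.f.f (p + 1 + 1)), Category.assoc, ← S.f.comm, reassoc_of% hx₁,
      d_comp_d, comp_zero, zero_comp]
  let l₁ : A ⟶ S.X₁.cycles (p + 1) := S.X₁.liftCycles x₁ (p + 1 + 1) (by simp) hcyc
  -- the key identity in `C`
  have star : q ≫ S.X₃.homologyπ p ≫ hS.δ p (p + 1) rfl = l₁ ≫ S.X₁.homologyπ (p + 1) :=
    hS.δ_eq p (p + 1) rfl x₃ hx₃ x₂ rfl x₁ hx₁ (p + 1 + 1) (by simp)
  -- the same in `Ab` for `G S`
  have hGx₃ : G.map x₃ ≫ (GC S.X₃ G).d p (p + 1) = 0 := by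
    change G.map x₃ ≫ G.map (S.X₃.d p (p + 1)) = 0
    rw [← G.map_comp, hx₃, G.map_zero]
  have hGx₁ : G.map x₁ ≫ G.map (S.f.f (p + 1)) = G.map x₂ ≫ (GC S.X₂ G).d p (p + 1) := by
    change G.map x₁ ≫ G.map (S.f.f (p + 1)) = G.map x₂ ≫ G.map (S.X₂.d p (p + 1))
    rw [← G.map_comp, ← G.map_comp, hx₁]
  have hGx₂ : G.map x₂ ≫ G.map (S.g.f p) = G.map x₃ := by
    rw [← G.map_comp]
  have hGcyc : G.map x₁ ≫ (GC S.X₁ G).d (p + 1) (p + 1 + 1) = 0 := by
    change G.map x₁ ≫ G.map (S.X₁.d (p + 1) (p + 1 + 1)) = 0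
    rw [← G.map_comp, hcyc, G.map_zero]
  have hl3 : (GC S.X₃ G).liftCycles (G.map x₃) (p + 1) (by simp) hGx₃ =
      G.map q ≫ cycCmp S.X₃ G p := by
    rw [← cancel_mono ((GC S.X₃ G).iCycles p), liftCycles_i, Category.assoc, cycCmp_i]
    change G.map x₃ = G.map q ≫ G.map (S.X₃.iCycles p)
    rw [← G.map_comp, liftCycles_i]
  have hl1 : (GC S.X₁ G).liftCycles (G.map x₁) (p + 1 + 1) (by simp) hGcyc =
      G.map l₁ ≫ cycCmp S.X₁ G (p + 1) := by
    rw [← cancel_mono ((GC S.X₁ G).iCycles (p + 1)), liftCycles_i, Category.assoc, cycCmp_i]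
    change G.map x₁ = G.map l₁ ≫ G.map (S.X₁.iCycles (p + 1))
    rw [← G.map_comp, liftCycles_i]
  have star' : (G.map q ≫ cycCmp S.X₃ G p) ≫ (GC S.X₃ G).homologyπ p ≫ δG =
      (G.map l₁ ≫ cycCmp S.X₁ G (p + 1)) ≫ (GC S.X₁ G).homologyπ (p + 1) := by
    rw [← hl3, ← hl1]
    exact H (G.map x₃) hGx₃ (G.map x₂) hGx₂ (G.map x₁) hGx₁ hGcyc
  -- the two composites agree after precomposition with `G.map q`
  have key : G.map q ≫ (cycCmp S.X₃ G p ≫ (GC S.X₃ G).homologyπ p ≫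
      δG ≫ kap S.X₁ G (p + 1)) =
      G.map q ≫ (cycCmp S.X₃ G p ≫ (GC S.X₃ G).homologyπ p ≫
        kap S.X₃ G p ≫ G.map (hS.δ p (p + 1) rfl)) := by
    have e1 : G.map q ≫ (cycCmp S.X₃ G p ≫ (GC S.X₃ G).homologyπ p ≫
        δG ≫ kap S.X₁ G (p + 1)) =
        ((G.map q ≫ cycCmp S.X₃ G p) ≫ (GC S.X₃ G).homologyπ p ≫ δG) ≫
          kap S.X₁ G (p + 1) := by
      simp only [Category.assoc]
    rw [e1, star', Category.assoc, Category.assoc, cycCmp_π_kap, cycCmp_π_kap_assoc,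
      ← G.map_comp, ← G.map_comp, ← G.map_comp, star]
  -- `G.map q` is surjective
  have hq : Epi (G.map q) := by
    rw [AddCommGrpCat.epi_iff_surjective]
    intro z₃
    obtain ⟨y, hy⟩ := hsurj ((G.map (S.X₃.iCycles p)).hom z₃)
    have hex : (ShortComplex.mk x₂ (S.X₂.d p (p + 1) ≫ S.g.f (p + 1))
        (kernel.condition _)).Exact :=
      ShortComplex.exact_of_f_is_kernel _ (kernelIsKernel _)
    have hex' := hex.map_of_mono_of_preservesKernel G
      (inferInstanceAs (Mono (kernel.ι (S.X₂.d p (p + 1) ≫ S.g.f (p + 1))))) inferInstance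
    rw [ShortComplex.ab_exact_iff] at hex'
    have hy0 : (G.map (S.X₂.d p (p + 1) ≫ S.g.f (p + 1))).hom y = 0 := by
      have e : S.X₂.d p (p + 1) ≫ S.g.f (p + 1) = S.g.f p ≫ S.X₃.d p (p + 1) :=
        (S.g.comm p (p + 1)).symm
      rw [e, G.map_comp]
      change (G.map (S.X₃.d p (p + 1))).hom ((G.map (S.g.f p)).hom y) = 0
      rw [hy]
      change (G.map (S.X₃.iCycles p) ≫ G.map (S.X₃.d p (p + 1))).hom z₃ = 0
      rw [← G.map_comp, iCycles_d, G.map_zero]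
      rfl
    obtain ⟨a, ha⟩ := hex' y hy0
    refine ⟨a, ?_⟩
    have hmono₃ : Mono (G.map (S.X₃.iCycles p)) := inferInstance
    apply (AddCommGrpCat.mono_iff_injective _).1 hmono₃
    change (G.map q ≫ G.map (S.X₃.iCycles p)).hom a = _
    rw [← G.map_comp, liftCycles_i, ← hy, ← ha]
    change (G.map (x₂ ≫ S.g.f p)).hom a = (G.map x₂ ≫ G.map (S.g.f p)).hom a
    rw [G.map_comp]
  have key' := (cancel_epi (G.map q)).1 key
  have hepi2 : Epi (cycCmp S.X₃ G p ≫ (GC S.X₃ G).homologyπ p) := epi_comp _ _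
  rw [← cancel_epi (cycCmp S.X₃ G p ≫ (GC S.X₃ G).homologyπ p)]
  simpa only [Category.assoc] using key'

include hS in
/-- **the comparison commutes with the connecting homomorphisms** -/
theorem δ_kap (hGS : (S.map (G.mapHomologicalComplex (ComplexShape.up ℕ))).ShortExact) (p : ℕ)
    (δG : (GC S.X₃ G).homology p ⟶ (GC S.X₁ G).homology (p + 1))
    (hδG : δG = hGS.δ p (p + 1) rfl) :
    δG ≫ kap S.X₁ G (p + 1) = kap S.X₃ G p ≫ G.map (hS.δ p (p + 1) rfl) := by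
  have hepi : Epi ((S.map (G.mapHomologicalComplex (ComplexShape.up ℕ))).map
      (HomologicalComplex.eval _ (ComplexShape.up ℕ) p)).g :=
    (hGS.map_of_exact (HomologicalComplex.eval _ (ComplexShape.up ℕ) p)).epi_g
  have hsurj : Function.Surjective (G.map (S.g.f p)).hom :=
    (AddCommGrpCat.epi_iff_surjective _).1 hepi
  refine δ_kap_aux G hS p δG hsurj ?_
  intro A' y₃ hy₃ y₂ hy₂ y₁ hy₁ hy₁'
  subst hδG
  exact hGS.δ_eq p (p + 1) rfl y₃ hy₃ y₂ hy₂ y₁ hy₁ (p + 1 + 1) (by simp)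

end Delta

end Groth.Agent.Lib.Helper1.QcqsLoc
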