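import Groth.Agent.Lib.Helper1.QcqsLoc.LocInjAux

/-!
# The comparison maps of a `CohCmp.SectCmp` are locally injective (helper1)
-/

set_option autoImplicit false
universe u
open CategoryTheory CategoryTheory.Limits AlgebraicGeometry TopologicalSpace Opposite Abelian

namespace Groth.Agent.Lib.Helper1.QcqsLoc

open Groth.Agent.Lib.Lead Groth.Agent.Lib.Lead.SectCmp

variable {X : Scheme.{u}}

section abstract

universe w v u₁

variable {C : Type u₁} [Category.{v} C] [Abelian C] [HasExt.{w} C]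

lemma comp_g_comp_extClass {S : ShortComplex C} (hS : S.ShortExact) {Z : C} (p : ℕ)
    (z : Ext.{w} Z S.X₂ p) :
    (z.comp (Ext.mk₀ S.g) (add_zero p)).comp hS.extClass rfl = 0 := by
  rw [Ext.comp_assoc_of_second_deg_zero, hS.comp_extClass, Ext.comp_zero]

end abstract

/-- the connecting homomorphism kills classes coming from the middle term -/
lemma extδ_mapH_g {U : X.Opens} (S : ShortComplex X.Modules)
    (hA : (S.map (CohCmp.toAbOn X U)).ShortExact) (p : ℕ) (z : Coh.HHon X S.X₂ U p) :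
    CohCmp.extδ hA p (CohPull.mapH ((Scheme.Modules.restrictFunctor U.ι).map S.g) p z) = 0 :=
  comp_g_comp_extClass hA p z

variable {Y : Scheme.{u}} (f : X ⟶ Y) [HasInjectiveResolutions X.Modules]
  {Δ : RDer.DerivedLES (Scheme.Modules.pushforward f)} (E : CohCmp.SectCmp f Δ)

/-- the degree-one step of the dimension shifting -/
theorem step_zero (S : ShortComplex X.Modules) (hS : S.ShortExact) [Injective S.X₂]
    (V : Y.Opens) (y' : Coh.HHon X S.X₃ (f ⁻¹ᵁ V) 0)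
    (hδ : (Δ.δ S hS 0 1 rfl).app V (E.ε V S.X₃ 0 y') = 0) (y : Y) (hy : y ∈ V) :
    ∃ (W : Y.Opens) (hWV : W ≤ V), y ∈ W ∧
      ∀ hA' : (S.map (CohCmp.toAbOn X (f ⁻¹ᵁ W))).ShortExact,
        CohCmp.extδ hA' 0 (CohPull.resLE S.X₃ (f.preimage_mono hWV) 0 y') = 0 := by
  obtain ⟨s, rfl⟩ := (CohPull.sectH0 S.X₃ (f ⁻¹ᵁ V)).surjective y'
  rw [E.zero] at hδ
  let Sx : ShortComplex Y.Modules :=
    ShortComplex.mk ((Coh.Rpush f 0).map S.g) (Δ.δ S hS 0 1 rfl) (Δ.comp_δ S hS 0 1 rfl)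
  have hex : Sx.Exact := Δ.exact₃ S hS 0 1 rfl
  obtain ⟨W, hWV, hyW, t, ht⟩ := exists_local_lift_of_exact Sx hex V
    (((Scheme.Modules.pushforward f).toRightDerivedZero.app S.X₃).app V s) hδ y hy
  obtain ⟨u, hu⟩ := (app_bijective_of_isIso
    ((Scheme.Modules.pushforward f).toRightDerivedZero.app S.X₂) W).2 t
  have hnat := (Scheme.Modules.pushforward f).toRightDerivedZero.naturality S.g
  have hnat' := congrArg (fun m => (Scheme.Modules.Hom.app m W) u) hnat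
  have h1 : ((Scheme.Modules.pushforward f).toRightDerivedZero.app S.X₃).app W
      (S.g.app (f ⁻¹ᵁ W) u) =
      ((Scheme.Modules.pushforward f).toRightDerivedZero.app S.X₃).app W
        (rs S.X₃ (f.preimage_mono hWV) s) := by
    refine hnat'.trans ?_
    refine (congrArg (fun z => (Scheme.Modules.Hom.app ((Coh.Rpush f 0).map S.g) W) z) hu).trans ?_
    refine ht.trans ?_
    exact (app_map ((Scheme.Modules.pushforward f).toRightDerivedZero.app S.X₃) hWV s).symm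
  have h2 : S.g.app (f ⁻¹ᵁ W) u = rs S.X₃ (f.preimage_mono hWV) s :=
    (app_bijective_of_isIso
      ((Scheme.Modules.pushforward f).toRightDerivedZero.app S.X₃) W).1 h1
  obtain ⟨ũ, hũ⟩ := rs_surjective_of_injective S.X₂ (f.preimage_mono hWV) u
  have hs₀ : rs S.X₃ (f.preimage_mono hWV) (s - S.g.app (f ⁻¹ᵁ V) ũ) = 0 := by
    rw [map_sub, sub_eq_zero, ← h2, ← hũ]
    exact app_map S.g (f.preimage_mono hWV) ũ
  refine ⟨W, hWV, hyW, fun hA' => ?_⟩
  have hsplit : CohPull.sectH0 S.X₃ (f ⁻¹ᵁ V) s =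
      CohPull.sectH0 S.X₃ (f ⁻¹ᵁ V) (s - S.g.app (f ⁻¹ᵁ V) ũ) +
        CohPull.mapH ((Scheme.Modules.restrictFunctor (f ⁻¹ᵁ V).ι).map S.g) 0
          (CohPull.sectH0 S.X₂ (f ⁻¹ᵁ V) ũ) := by
    rw [← sectH0_naturality, ← map_add, sub_add_cancel]
  have e1 : CohPull.resLE S.X₃ (f.preimage_mono hWV) 0 (CohPull.sectH0 S.X₃ (f ⁻¹ᵁ V) s) =
      CohPull.resLE S.X₃ (f.preimage_mono hWV) 0
        (CohPull.mapH ((Scheme.Modules.restrictFunctor (f ⁻¹ᵁ V).ι).map S.g) 0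
          (CohPull.sectH0 S.X₂ (f ⁻¹ᵁ V) ũ)) := by
    refine (congrArg (CohPull.resLE S.X₃ (f.preimage_mono hWV) 0) hsplit).trans ?_
    refine (map_add (CohPull.resLE S.X₃ (f.preimage_mono hWV) 0) _ _).trans ?_
    rw [resLE_sectH0_eq_zero S.X₃ _ _ hs₀, zero_add]
  have e2 := e1.trans (resLE_naturality (f.preimage_mono hWV) S.g 0
    (CohPull.sectH0 S.X₂ (f ⁻¹ᵁ V) ũ))
  exact (congrArg (CohCmp.extδ hA' 0) e2).trans (extδ_mapH_g S hA' 0 _)

end Groth.Agent.Lib.Helper1.QcqsLoc
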