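import Groth.Agent.Lib.Helper1.QcqsLoc.LocInj

/-!
# The comparison maps of a `CohCmp.SectCmp` are locally injective: the induction (helper1)
-/

set_option autoImplicit false
universe u
open CategoryTheory CategoryTheory.Limits AlgebraicGeometry TopologicalSpace Opposite Abelian

namespace Groth.Agent.Lib.Helper1.QcqsLoc

open Groth.Agent.Lib.Lead Groth.Agent.Lib.Lead.SectCmp

variable {X Y : Scheme.{u}} (f : X ⟶ Y) [HasInjectiveResolutions X.Modules]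
  {Δ : RDer.DerivedLES (Scheme.Modules.pushforward f)} (E : CohCmp.SectCmp f Δ)

/-- reduction of the degree `p + 1` statement for `S.X₁` to a statement in degree `p` for `S.X₃` -/
theorem reduce_step (p : ℕ) (S : ShortComplex X.Modules) (hS : S.ShortExact) [Injective S.X₂]
    (V : Y.Opens) (x : Coh.HHon X S.X₁ (f ⁻¹ᵁ V) (p + 1)) (hx : E.ε V S.X₁ (p + 1) x = 0)
    (y : Y)
    (H : ∀ y' : Coh.HHon X S.X₃ (f ⁻¹ᵁ V) p,
      (Δ.δ S hS p (p + 1) rfl).app V (E.ε V S.X₃ p y') = 0 →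
      ∃ (W : Y.Opens) (hWV : W ≤ V), y ∈ W ∧
        ∀ hA' : (S.map (CohCmp.toAbOn X (f ⁻¹ᵁ W))).ShortExact,
          CohCmp.extδ hA' p (CohPull.resLE S.X₃ (f.preimage_mono hWV) p y') = 0) :
    ∃ (W : Y.Opens) (hWV : W ≤ V), y ∈ W ∧
      CohPull.resLE S.X₁ (f.preimage_mono hWV) (p + 1) x = 0 := by
  have hA := toAbOn_shortExact (f ⁻¹ᵁ V) hS
  have hsub : Subsingleton (Coh.HHon X S.X₂ (f ⁻¹ᵁ V) (p + 1)) :=
    subsingleton_HHon_of_injective _ _ p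
  obtain ⟨y', rfl⟩ : ∃ y', CohCmp.extδ hA p y' = x :=
    Abelian.Ext.covariant_sequence_exact₁ _ hA x (@Subsingleton.elim _ hsub _ _) rfl
  have hδ : (Δ.δ _ hS p (p + 1) rfl).app V (E.ε V _ p y') = 0 :=
    (E.delta V _ hS hA p y').symm.trans hx
  obtain ⟨W, hWV, hyW, hW⟩ := H y' hδ
  refine ⟨W, hWV, hyW, ?_⟩
  have hA' := toAbOn_shortExact (f ⁻¹ᵁ W) hS
  have h1 := resLE_extδ (f.preimage_mono hWV) S hA hA' p y'
  exact h1.trans (hW hA')

/-- the step in degrees `≥ 2` -/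
theorem step_succ (q : ℕ)
    (ih : ∀ (F : X.Modules) (V : Y.Opens) (x : Coh.HHon X F (f ⁻¹ᵁ V) (q + 1)),
      E.ε V F (q + 1) x = 0 → ∀ (y : Y), y ∈ V →
      ∃ (W : Y.Opens) (hWV : W ≤ V), y ∈ W ∧
        CohPull.resLE F (f.preimage_mono hWV) (q + 1) x = 0)
    (S : ShortComplex X.Modules) (hS : S.ShortExact) [Injective S.X₂]
    (V : Y.Opens) (y' : Coh.HHon X S.X₃ (f ⁻¹ᵁ V) (q + 1))
    (hδ : (Δ.δ S hS (q + 1) (q + 1 + 1) rfl).app V (E.ε V S.X₃ (q + 1) y') = 0)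
    (y : Y) (hy : y ∈ V) :
    ∃ (W : Y.Opens) (hWV : W ≤ V), y ∈ W ∧
      ∀ hA' : (S.map (CohCmp.toAbOn X (f ⁻¹ᵁ W))).ShortExact,
        CohCmp.extδ hA' (q + 1) (CohPull.resLE S.X₃ (f.preimage_mono hWV) (q + 1) y') = 0 := by
  have hI : IsZero ((Coh.Rpush f (q + 1)).obj S.X₂) :=
    (Scheme.Modules.pushforward f).isZero_rightDerived_obj_injective_succ q _
  have hmono : Mono (Δ.δ _ hS (q + 1) (q + 1 + 1) rfl) :=
    (Δ.exact₃ _ hS (q + 1) (q + 1 + 1) rfl).mono_g (hI.eq_of_src _ _)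
  have h0 : E.ε V _ (q + 1) y' = 0 := by
    apply app_injective_of_mono (Δ.δ _ hS (q + 1) (q + 1 + 1) rfl) V
    rw [map_zero]
    exact hδ
  obtain ⟨W, hWV, hyW, hW⟩ := ih _ V y' h0 y hy
  exact ⟨W, hWV, hyW, fun hA' => (congrArg _ hW).trans (map_zero _)⟩

end Groth.Agent.Lib.Helper1.QcqsLoc
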