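import Groth.Agent.Lib.Helper1.QcqsLoc.LocInj2

/-!
# The comparison maps of a `CohCmp.SectCmp` are locally injective (helper1)
-/

set_option autoImplicit false
universe u
open CategoryTheory CategoryTheory.Limits AlgebraicGeometry TopologicalSpace Opposite Abelian

namespace Groth.Agent.Lib.Helper1.QcqsLoc

open Groth.Agent.Lib.Lead Groth.Agent.Lib.Lead.SectCmp

variable {X Y : Scheme.{u}} (f : X ⟶ Y) [HasInjectiveResolutions X.Modules]
  {Δ : RDer.DerivedLES (Scheme.Modules.pushforward f)} (E : CohCmp.SectCmp f Δ)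

/-- **The comparison maps are locally injective.** -/
theorem locally_zero (p : ℕ) : ∀ (F : X.Modules) (V : Y.Opens)
    (x : Coh.HHon X F (f ⁻¹ᵁ V) p), E.ε V F p x = 0 → ∀ (y : Y), y ∈ V →
    ∃ (W : Y.Opens) (hWV : W ≤ V), y ∈ W ∧ CohPull.resLE F (f.preimage_mono hWV) p x = 0 := by
  induction p with
  | zero =>
    intro F V x hx y hy
    obtain ⟨s, rfl⟩ := (CohPull.sectH0 F (f ⁻¹ᵁ V)).surjective x
    rw [E.zero] at hx
    have hs : s = 0 := by
      apply (app_bijective_of_isIso ((Scheme.Modules.pushforward f).toRightDerivedZero.app F) V).1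
      exact hx.trans (map_zero _).symm
    refine ⟨V, le_rfl, hy, ?_⟩
    rw [hs, map_zero, map_zero]
  | succ p ih =>
    intro F V x hx y hy
    have hS : (ExtAdj.sesInj F).ShortExact := ExtAdj.sesInj_shortExact F
    refine reduce_step f E p (ExtAdj.sesInj F) hS V x hx y (fun y' hδ => ?_)
    cases p with
    | zero => exact step_zero f E (ExtAdj.sesInj F) hS V y' hδ y hy
    | succ q => exact step_succ f E q ih (ExtAdj.sesInj F) hS V y' hδ y hy

end Groth.Agent.Lib.Helper1.QcqsLoc
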