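import Groth.Agent.Lib.Helper1.QcqsLoc.ResLE3
import Groth.Agent.Lib.Helper1.QcqsLoc.ExtModel
import Groth.Agent.Lib.Helper1.QcqsLoc.Flasque

/-!
# Auxiliary lemmas for the local injectivity of the comparison maps (helper1)
-/

set_option autoImplicit false
universe u
open CategoryTheory CategoryTheory.Limits AlgebraicGeometry TopologicalSpace Opposite Abelian

namespace Groth.Agent.Lib.Helper1.QcqsLoc

open Groth.Agent.Lib.Lead.SectCmp

variable {X : Scheme.{u}}

/-- a monomorphism of modules is injective on sections -/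
lemma app_injective_of_mono {M N : X.Modules} (φ : M ⟶ N) [Mono φ] (V : X.Opens) :
    Function.Injective (φ.app V) := by
  have : Mono ((secF V).map φ) := inferInstance
  exact (AddCommGrpCat.mono_iff_injective _).1 this

/-- an isomorphism of modules is bijective on sections -/
lemma app_bijective_of_isIso {M N : X.Modules} (φ : M ⟶ N) [IsIso φ] (V : X.Opens) :
    Function.Bijective (φ.app V) := by
  have : IsIso ((secF V).map φ) := inferInstance
  exact (ConcreteCategory.isIso_iff_bijective _).1 this

/-- sections killed by the second map of an exact sequence locally lift along the first -/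
theorem exists_local_lift_of_exact (S : ShortComplex X.Modules) (hS : S.Exact) (V : X.Opens)
    (b : Γ(S.X₂, V)) (hb : S.g.app V b = 0) (x : X) (hx : x ∈ V) :
    ∃ (W : X.Opens) (hWV : W ≤ V), x ∈ W ∧ ∃ a : Γ(S.X₁, W),
      S.f.app W a = rs S.X₂ hWV b := by
  have hepi : Epi (kernel.lift S.g S.f S.zero) := S.exact_iff_epi_kernel_lift.1 hS
  let T : ShortComplex X.Modules :=
    ShortComplex.mk (kernel.ι S.g) S.g (kernel.condition _)
  have hT : T.Exact := ShortComplex.exact_of_f_is_kernel _ (kernelIsKernel _)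
  have hT' := hT.map_of_mono_of_preservesKernel (secF V)
    (inferInstanceAs (Mono (kernel.ι S.g))) inferInstance
  rw [ShortComplex.ab_exact_iff] at hT'
  obtain ⟨z, hz⟩ := hT' b hb
  obtain ⟨W, hWV, hxW, w, hw⟩ := exists_local_lift (kernel.lift S.g S.f S.zero) V z x hx
  refine ⟨W, hWV, hxW, w, ?_⟩
  have h1 : S.f = kernel.lift S.g S.f S.zero ≫ kernel.ι S.g := (kernel.lift_ι _ _ _).symm
  have h2 : S.f.app W w = (kernel.ι S.g).app W ((kernel.lift S.g S.f S.zero).app W w) :=
    congrArg (fun k => (Scheme.Modules.Hom.app k W) w) h1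
  rw [h2, hw]
  have h3 : (kernel.ι S.g).app V z = b := hz
  rw [← h3]
  exact app_map (kernel.ι S.g) hWV z

/-- naturality of `sectH0` -/
lemma sectH0_naturality [HasInjectiveResolutions X.Modules] {F G : X.Modules} (ψ : F ⟶ G)
    (U : X.Opens) (s : Γ(F, U)) :
    CohPull.sectH0 G U (ψ.app U s) =
      CohPull.mapH ((Scheme.Modules.restrictFunctor U.ι).map ψ) 0 (CohPull.sectH0 F U s) :=
  ConcreteCategory.congr_hom ((sectIso U).hom.naturality ψ) s

/-- `sectH0` of a section vanishing on `U'` restricts to zero on `U'` -/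
theorem resLE_sectH0_eq_zero [HasInjectiveResolutions X.Modules] (Q : X.Modules)
    {U U' : X.Opens} (h : U' ≤ U) (s₀ : Γ(Q, U)) (hs : rs Q h s₀ = 0) :
    CohPull.resLE Q h 0 (CohPull.sectH0 Q U s₀) = 0 := by
  let η := (Scheme.Modules.restrictAdjunction U'.ι).unit.app Q
  let κ := kernel.ι η
  -- `s₀` lifts to the kernel
  let T : ShortComplex X.Modules := ShortComplex.mk κ η (kernel.condition _)
  have hT : T.Exact := ShortComplex.exact_of_f_is_kernel _ (kernelIsKernel _)
  have hTU := hT.map_of_mono_of_preservesKernel (secF U)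
    (inferInstanceAs (Mono (kernel.ι η))) inferInstance
  rw [ShortComplex.ab_exact_iff] at hTU
  have hη : η.app U s₀ = 0 := by
    have e : η.app U s₀ = rs Q ((U'.ι.image_preimage_le U)) s₀ := rfl
    have hle : U'.ι ''ᵁ (U'.ι ⁻¹ᵁ U) ≤ U' := by
      intro x hx
      obtain ⟨y, -, rfl⟩ := hx
      exact y.2
    rw [e, ← rs_rs Q h hle, hs, map_zero]
    rfl
  obtain ⟨k, hk⟩ := hTU s₀ hη
  have hk' : κ.app U k = s₀ := hk
  rw [← hk', sectH0_naturality, resLE_naturality]
  -- the class over `U'` vanishes since `Γ(U', K) = 0`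
  obtain ⟨k', hk''⟩ := (CohPull.sectH0 (kernel η) U').surjective
    (CohPull.resLE (kernel η) h 0 (CohPull.sectH0 (kernel η) U k))
  have hzero : k' = 0 := by
    have hinj : Function.Injective (κ.app U') :=
      app_injective_of_mono κ U'
    apply hinj
    rw [map_zero]
    have hcomp : η.app U' (κ.app U' k') = 0 := by
      have := kernel.condition η
      exact congrArg (fun m => (Scheme.Modules.Hom.app m U') k') this
    have e : η.app U' (κ.app U' k') = rs Q ((U'.ι.image_preimage_le U')) (κ.app U' k') := rfl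
    have heq : U'.ι ''ᵁ (U'.ι ⁻¹ᵁ U') = U' := by
      apply le_antisymm (U'.ι.image_preimage_le U')
      intro x hx
      exact ⟨⟨x, hx⟩, hx, rfl⟩
    have hinj' : Function.Injective (rs Q (U'.ι.image_preimage_le U')) := by
      intro a b hab
      have hab' := congrArg (rs Q heq.ge) hab
      rw [rs_rs, rs_rs] at hab'
      have ha : rs Q (le_refl U') a = a := map_homOfLE_refl Q U' a
      have hb : rs Q (le_refl U') b = b := map_homOfLE_refl Q U' b
      exact ha.symm.trans (hab'.trans hb)
    apply hinj'
    rw [map_zero, ← e]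
    exact hcomp
  rw [← hk'', hzero, map_zero, map_zero]

end Groth.Agent.Lib.Helper1.QcqsLoc
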