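import Groth.Agent.Lib.Helper1.QcqsLoc.ResLE

/-!
# `CohPull.resLE` in Ext-calculus form (helper1)
-/

set_option autoImplicit false
universe u
open CategoryTheory CategoryTheory.Limits AlgebraicGeometry TopologicalSpace Opposite Abelian

namespace Groth.Agent.Lib.Helper1.QcqsLoc

variable {X : Scheme.{u}} {U U' : X.Opens} (h : U' ≤ U)

lemma resLE_eq (F : X.Modules) (p : ℕ) (x : Coh.HHon X F U p) :
    CohPull.resLE F h p x =
      (Ext.mk₀ (CohPull.oneTo (jj h).base)).comp
        ((x.mapExactFunctor (CohPull.inv (jj h).base)).comp (Ext.mk₀ (cc h F)) (add_zero p))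
        (zero_add p) := by
  unfold CohPull.resLE CohPull.pullOn CohPull.pullMod CohPull.pullAb CohPull.mapH
  simp only [AddMonoidHom.comp_apply, Sheaf.H.map_apply]
  simp only [Ext.bilinearComp_apply_apply, Functor.mapExtAddHom_apply,
    Ext.comp_assoc_of_third_deg_zero, Ext.mk₀_comp_mk₀]
  rfl

end Groth.Agent.Lib.Helper1.QcqsLoc
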