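import Groth.Agent.Lib.Helper1.QcqsLoc.ResLE2

/-!
# `CohPull.resLE`: naturality in the module and compatibility with connecting homomorphisms
(helper1)
-/

set_option autoImplicit false
universe u
open CategoryTheory CategoryTheory.Limits AlgebraicGeometry TopologicalSpace Opposite Abelian

namespace Groth.Agent.Lib.Helper1.QcqsLoc

variable {X : Scheme.{u}} {U U' : X.Opens} (h : U' ≤ U)

/-- naturality of `resLE` in the module -/
theorem resLE_naturality {F G : X.Modules} (ψ : F ⟶ G) (p : ℕ) (x : Coh.HHon X F U p) :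
    CohPull.resLE G h p (CohPull.mapH ((Scheme.Modules.restrictFunctor U.ι).map ψ) p x) =
      CohPull.mapH ((Scheme.Modules.restrictFunctor U'.ι).map ψ) p (CohPull.resLE F h p x) := by
  rw [resLE_eq, resLE_eq]
  change (Ext.mk₀ (CohPull.oneTo (jj h).base)).comp
      (((x.comp (Ext.mk₀ ((CohCmp.toAbOn X U).map ψ)) (add_zero p)).mapExactFunctor
        (CohPull.inv (jj h).base)).comp (Ext.mk₀ (cc h G)) (add_zero p)) (zero_add p) =
    ((Ext.mk₀ (CohPull.oneTo (jj h).base)).comp
      ((x.mapExactFunctor (CohPull.inv (jj h).base)).comp (Ext.mk₀ (cc h F)) (add_zero p))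
        (zero_add p)).comp (Ext.mk₀ ((CohCmp.toAbOn X U').map ψ)) (add_zero p)
  rw [Ext.mapExactFunctor_comp, Ext.mapExactFunctor_mk₀]
  simp only [Ext.comp_assoc_of_third_deg_zero, Ext.mk₀_comp_mk₀]
  rw [cc_naturality]

section abstract

universe w w' v v' u₁ u₂

variable {C : Type u₁} [Category.{v} C] [Abelian C] {D : Type u₂} [Category.{v'} D] [Abelian D]
  [HasExt.{w} C] [HasExt.{w'} D] (ι : C ⥤ D) [ι.Additive] [PreservesFiniteLimits ι]
  [PreservesFiniteColimits ι]

theorem ext_delta_aux {Z : C} {Z' : D} (o : Z' ⟶ ι.obj Z)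
    {S : ShortComplex C} (hS : S.ShortExact) {S' : ShortComplex D} (hS' : S'.ShortExact)
    (φ : S.map ι ⟶ S') (p : ℕ) (y : Ext.{w} Z S.X₃ p) :
    (Ext.mk₀ o).comp (((y.comp hS.extClass rfl).mapExactFunctor ι).comp (Ext.mk₀ φ.τ₁)
        (add_zero (p + 1))) (zero_add (p + 1)) =
      ((Ext.mk₀ o).comp ((y.mapExactFunctor ι).comp (Ext.mk₀ φ.τ₃) (add_zero p))
        (zero_add p)).comp hS'.extClass rfl := by
  have hnat := ShortComplex.ShortExact.extClass_naturality (hS.map_of_exact ι) hS' φ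
  rw [Ext.mapExactFunctor_comp, Ext.mapExactFunctor_extClass, Ext.comp_assoc_of_third_deg_zero]
  erw [hnat]
  rw [Ext.comp_assoc (Ext.mk₀ o) _ hS'.extClass (zero_add p) rfl (by omega),
    Ext.comp_assoc_of_second_deg_zero]
  rfl

end abstract

/-- compatibility of `resLE` with the connecting homomorphisms -/
theorem resLE_extδ (S : ShortComplex X.Modules)
    (hA : (S.map (CohCmp.toAbOn X U)).ShortExact) (hA' : (S.map (CohCmp.toAbOn X U')).ShortExact)
    (p : ℕ) (y : Coh.HHon X S.X₃ U p) :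
    CohPull.resLE S.X₁ h (p + 1) (CohCmp.extδ hA p y) =
      CohCmp.extδ hA' p (CohPull.resLE S.X₃ h p y) := by
  rw [resLE_eq, resLE_eq]
  let φ : (S.map (CohCmp.toAbOn X U)).map (CohPull.inv (jj h).base) ⟶
      S.map (CohCmp.toAbOn X U') :=
    { τ₁ := cc h S.X₁
      τ₂ := cc h S.X₂
      τ₃ := cc h S.X₃
      comm₁₂ := (cc_naturality h S.f).symm
      comm₂₃ := (cc_naturality h S.g).symm }
  exact ext_delta_aux (CohPull.inv (jj h).base) (CohPull.oneTo (jj h).base) hA hA' φ p y

end Groth.Agent.Lib.Helper1.QcqsLoc
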