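import Groth.Agent.Lib.Helper1.QcqsLoc.MV

/-!
# The Mayer–Vietoris step for localization of cohomology (helper1)
-/

set_option autoImplicit false
universe u
open CategoryTheory CategoryTheory.Limits AlgebraicGeometry TopologicalSpace Opposite

namespace Groth.Agent.Lib.Helper1.QcqsLoc

open Groth.Agent.Lib.Helper1.CohLoc

variable {X : Scheme.{u}}

/-! ### Restriction and scalar multiplication on the product functor -/

/-- componentwise restriction -/
noncomputable def prodRes {U V U' V' : X.Opens} (hU : U' ≤ U) (hV : V' ≤ V) :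
    prodF U V ⟶ prodF U' V' :=
  pairT (pr₁ U V ≫ resT hU) (pr₂ U V ≫ resT hV)

/-- componentwise scalar multiplication -/
noncomputable def prodSmul {U V : X.Opens} (r : Γ(X, U)) (s : Γ(X, V)) : prodF U V ⟶ prodF U V :=
  pairT (pr₁ U V ≫ smulT U r) (pr₂ U V ≫ smulT V s)

section Squares

variable {W U V Z W' U' V' Z' : X.Opens} (hU : U ≤ W) (hV : V ≤ W) (hZU : Z ≤ U) (hZV : Z ≤ V)
  (hU' : U' ≤ W') (hV' : V' ≤ W') (hZU' : Z' ≤ U') (hZV' : Z' ≤ V')
  (hWW : W' ≤ W) (hUU : U' ≤ U) (hVV : V' ≤ V) (hZZ : Z' ≤ Z)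

include hU' hV' hWW in
lemma mvα_prodRes : mvα hU hV ≫ prodRes hUU hVV = resT hWW ≫ mvα hU' hV' := by
  apply prodF_hom_ext
  · simp only [Category.assoc, mvα, prodRes, pairT_pr₁]
    rw [← Category.assoc, pairT_pr₁, resT_comp, resT_comp]
  · simp only [Category.assoc, mvα, prodRes, pairT_pr₂]
    rw [← Category.assoc, pairT_pr₂, resT_comp, resT_comp]

include hZU' hZV' hUU hVV in
lemma mvβ_resT : mvβ hZU hZV ≫ resT hZZ = prodRes hUU hVV ≫ mvβ hZU' hZV' := by
  simp only [mvβ, prodRes, Preadditive.sub_comp, Preadditive.comp_sub, Category.assoc, resT_comp]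
  rw [← Category.assoc, ← Category.assoc, pairT_pr₁, pairT_pr₂, Category.assoc, Category.assoc,
    resT_comp, resT_comp]

lemma mvα_prodSmul (r : Γ(X, W)) :
    mvα hU hV ≫ prodSmul (X.presheaf.map (homOfLE hU).op r) (X.presheaf.map (homOfLE hV).op r) =
      smulT W r ≫ mvα hU hV := by
  apply prodF_hom_ext
  · simp only [Category.assoc, mvα, prodSmul, pairT_pr₁]
    rw [← Category.assoc, pairT_pr₁, smulT_resT]
  · simp only [Category.assoc, mvα, prodSmul, pairT_pr₂]
    rw [← Category.assoc, pairT_pr₂, smulT_resT]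

lemma mvβ_smulT (r : Γ(X, U)) (s : Γ(X, V)) (t : Γ(X, Z))
    (hr : X.presheaf.map (homOfLE hZU).op r = t) (hs : X.presheaf.map (homOfLE hZV).op s = t) :
    mvβ hZU hZV ≫ smulT Z t = prodSmul r s ≫ mvβ hZU hZV := by
  simp only [mvβ, prodSmul, Preadditive.sub_comp, Preadditive.comp_sub, Category.assoc]
  rw [← Category.assoc (pairT _ _), ← Category.assoc (pairT _ _), pairT_pr₁, pairT_pr₂,
    Category.assoc, Category.assoc, smulT_resT, smulT_resT, hr, hs]

end Squares

/-! ### Homology of the product functor -/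

section ProdH

variable (K : CochainComplex X.Modules ℕ) (U V : X.Opens) (p : ℕ)

/-- `H^p` of the product functor is the product of the `H^p`. -/
noncomputable def prodHEquiv :
    (GC K (prodF U V)).homology p ≃+
      (GC K (secF U)).homology p × (GC K (secF V)).homology p where
  toFun x := ((Hm K (pr₁ U V) p).hom x, (Hm K (pr₂ U V) p).hom x)
  invFun y := (Hm K (in₁ U V) p).hom y.1 + (Hm K (in₂ U V) p).hom y.2
  left_inv x := by
    change (Hm K (in₁ U V) p).hom ((Hm K (pr₁ U V) p).hom x) +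
      (Hm K (in₂ U V) p).hom ((Hm K (pr₂ U V) p).hom x) = x
    rw [← Hm_comp_apply, ← Hm_comp_apply]
    have : (Hm K (pr₁ U V ≫ in₁ U V + pr₂ U V ≫ in₂ U V) p).hom x = x := by
      rw [Hm_congr_apply K (pr_in_total U V), Hm_id_apply]
    rw [Hm_add] at this
    exact this
  right_inv y := by
    obtain ⟨y₁, y₂⟩ := y
    change ((Hm K (pr₁ U V) p).hom ((Hm K (in₁ U V) p).hom y₁ + (Hm K (in₂ U V) p).hom y₂),
      (Hm K (pr₂ U V) p).hom ((Hm K (in₁ U V) p).hom y₁ + (Hm K (in₂ U V) p).hom y₂)) = (y₁, y₂)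
    rw [map_add, map_add, ← Hm_comp_apply, ← Hm_comp_apply, ← Hm_comp_apply, ← Hm_comp_apply,
      Hm_congr_apply K (in₁_pr₁ U V), Hm_congr_apply K (in₂_pr₁ U V),
      Hm_congr_apply K (in₁_pr₂ U V), Hm_congr_apply K (in₂_pr₂ U V), Hm_id_apply, Hm_id_apply,
      Hm_zero, Hm_zero]
    simp
  map_add' x y := by
    ext
    · exact map_add _ x y
    · exact map_add _ x y

end ProdH

/-! ### The property and the Mayer–Vietoris step -/

section Main

variable (K : CochainComplex X.Modules ℕ) {W₀ : X.Opens} (h : Γ(X, W₀))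

/-- `h` restricted to `V ≤ W₀` -/
noncomputable abbrev hr {V : X.Opens} (hV : V ≤ W₀) : Γ(X, V) :=
  X.presheaf.map (homOfLE hV).op h

lemma hr_res {V V' : X.Opens} (hV : V ≤ W₀) (hV' : V' ≤ V) :
    X.presheaf.map (homOfLE hV').op (hr h hV) = hr h (hV'.trans hV) := by
  change (X.presheaf.map (homOfLE hV).op ≫ X.presheaf.map (homOfLE hV').op) h = _
  rw [← X.presheaf.map_comp]
  rfl

/-- multiplication by `h` on `H^p(V, K)` -/
noncomputable abbrev φH {V : X.Opens} (hV : V ≤ W₀) (p : ℕ) :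
    (GC K (secF V)).homology p →+ (GC K (secF V)).homology p :=
  (Hm K (smulT V (hr h hV)) p).hom

/-- restriction `H^p(V, K) → H^p(V', K)` -/
noncomputable abbrev ρH {V V' : X.Opens} (hVV : V' ≤ V) (p : ℕ) :
    (GC K (secF V)).homology p →+ (GC K (secF V')).homology p :=
  (Hm K (resT hVV) p).hom

/-- **The localization property** of the cohomology over `V` of the complex `K`: restriction to
`V ∩ D(h)` is a localization at `h`, in all degrees. -/
def PrLoc (V : X.Opens) : Prop :=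
  ∀ (hV : V ≤ W₀) (p : ℕ),
    IsLoc (φH K h hV p) (φH K h (inf_le_left.trans hV : V ⊓ X.basicOpen h ≤ W₀) p)
      (ρH K (inf_le_left : V ⊓ X.basicOpen h ≤ V) p)

lemma ρH_φH {V V' : X.Opens} (hV : V ≤ W₀) (hVV : V' ≤ V) (p : ℕ)
    (x : (GC K (secF V)).homology p) :
    ρH K hVV p (φH K h hV p x) = φH K h (hVV.trans hV) p (ρH K hVV p x) := by
  change (Hm K (resT hVV) p).hom ((Hm K (smulT V (hr h hV)) p).hom x) =
    (Hm K (smulT V' (hr h (hVV.trans hV))) p).hom ((Hm K (resT hVV) p).hom x)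
  rw [← Hm_comp_apply, ← Hm_comp_apply, Hm_congr_apply K (smulT_resT hVV (hr h hV)), hr_res]

/-- the product version of the property -/
lemma isLoc_prod {U V U' V' : X.Opens} (hU : U ≤ W₀) (hV : V ≤ W₀) (hUU : U' ≤ U) (hVV : V' ≤ V)
    (p : ℕ)
    (h1 : IsLoc (φH K h hU p) (φH K h (hUU.trans hU) p) (ρH K hUU p))
    (h2 : IsLoc (φH K h hV p) (φH K h (hVV.trans hV) p) (ρH K hVV p)) :
    IsLoc (Hm K (prodSmul (hr h hU) (hr h hV)) p).hom
      (Hm K (prodSmul (hr h (hUU.trans hU)) (hr h (hVV.trans hV))) p).hom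
      (Hm K (prodRes hUU hVV) p).hom := by
  refine IsLoc.of_equiv (IsLoc.prod h1 h2) (prodHEquiv K U V p) (prodHEquiv K U' V' p) ?_ ?_ ?_
  · intro x
    change ((Hm K (pr₁ U V) p).hom ((Hm K (prodSmul _ _) p).hom x),
      (Hm K (pr₂ U V) p).hom ((Hm K (prodSmul _ _) p).hom x)) =
      ((Hm K (smulT U _) p).hom ((Hm K (pr₁ U V) p).hom x),
        (Hm K (smulT V _) p).hom ((Hm K (pr₂ U V) p).hom x))
    rw [← Hm_comp_apply, ← Hm_comp_apply, ← Hm_comp_apply, ← Hm_comp_apply]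
    unfold prodSmul
    rw [Hm_congr_apply K (pairT_pr₁ _ _), Hm_congr_apply K (pairT_pr₂ _ _)]
  · intro x
    change ((Hm K (pr₁ U' V') p).hom ((Hm K (prodSmul _ _) p).hom x),
      (Hm K (pr₂ U' V') p).hom ((Hm K (prodSmul _ _) p).hom x)) =
      ((Hm K (smulT U' _) p).hom ((Hm K (pr₁ U' V') p).hom x),
        (Hm K (smulT V' _) p).hom ((Hm K (pr₂ U' V') p).hom x))
    rw [← Hm_comp_apply, ← Hm_comp_apply, ← Hm_comp_apply, ← Hm_comp_apply]
    unfold prodSmul
    rw [Hm_congr_apply K (pairT_pr₁ _ _), Hm_congr_apply K (pairT_pr₂ _ _)]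
  · intro x
    change ((Hm K (pr₁ U' V') p).hom ((Hm K (prodRes hUU hVV) p).hom x),
      (Hm K (pr₂ U' V') p).hom ((Hm K (prodRes hUU hVV) p).hom x)) =
      ((Hm K (resT hUU) p).hom ((Hm K (pr₁ U V) p).hom x),
        (Hm K (resT hVV) p).hom ((Hm K (pr₂ U V) p).hom x))
    rw [← Hm_comp_apply, ← Hm_comp_apply, ← Hm_comp_apply, ← Hm_comp_apply]
    unfold prodRes
    rw [Hm_congr_apply K (pairT_pr₁ _ _), Hm_congr_apply K (pairT_pr₂ _ _)]

end Main

end Groth.Agent.Lib.Helper1.QcqsLoc
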