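import Groth.Agent.Lib.Helper1.QcqsLoc.KappaLocal
import Groth.Agent.Lib.Helper1.QcqsLoc.Step

/-!
# Sections over affine opens of the homology sheaves of a complex with localizing cohomology
(helper1)

`HL L p`: for every affine open `T` and every function `g` on `T`, the restriction
`H^p(Γ(T, L)) → H^p(Γ(D(g), L))` is a localization at `g`.  Under `HL`, the comparison
`H^p(Γ(T, L)) → Γ(T, H^p L)` is bijective for every affine open `T`.
-/

set_option autoImplicit false
universe u
open CategoryTheory CategoryTheory.Limits AlgebraicGeometry TopologicalSpace Opposite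
  HomologicalComplex

namespace Groth.Agent.Lib.Helper1.QcqsLoc

open Groth.Agent.Lib.Helper1.CohLoc Groth.Agent.Lib.Helper17.AbHomology

variable {S : Scheme.{u}} (L : CochainComplex S.Modules ℕ) (p : ℕ)

/-- the localization hypothesis -/
def HL : Prop := ∀ (T : S.Opens), IsAffineOpen T → ∀ g : Γ(S, T),
  IsLoc (φH L g (le_refl T) p) (φH L g (S.basicOpen_le g) p) (ρH L (S.basicOpen_le g) p)

section Act

variable {T : S.Opens}

lemma hr_refl (r : Γ(S, T)) : hr r (le_refl T) = r := by
  have e : (homOfLE (le_refl T)).op = 𝟙 (op T) := rfl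
  change (S.presheaf.map (homOfLE (le_refl T)).op).hom r = r
  rw [e, S.presheaf.map_id]
  rfl

lemma φH_refl (r : Γ(S, T)) (x : (GC L (secF T)).homology p) :
    φH L r (le_refl T) p x = (Hm L (smulT T r) p).hom x := by
  change (Hm L (smulT T (hr r (le_refl T))) p).hom x = _
  rw [hr_refl]

lemma smulT_zero' (V : S.Opens) : smulT V (0 : Γ(S, V)) = 0 := by
  have h := smulT_add V (0 : Γ(S, V)) 0
  rw [add_zero] at h
  exact left_eq_add.1 h

/-- the action of `Γ(S, T)` on `H^p(V, L)` for `V ≤ T` -/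
noncomputable def actHom {V : S.Opens} (hV : V ≤ T) :
    Γ(S, T) →+* AddMonoid.End ((GC L (secF V)).homology p : AddCommGrpCat.{u}) where
  toFun r := φH L r hV p
  map_one' := by
    ext x
    change (Hm L (smulT V (hr (1 : Γ(S, T)) hV)) p).hom x = x
    have h1 : hr (1 : Γ(S, T)) hV = 1 := map_one _
    rw [h1, Hm_congr_apply L (smulT_one V)]
    exact Hm_id_apply L p x
  map_mul' r s := by
    ext x
    change (Hm L (smulT V (hr (r * s) hV)) p).hom x =
      (Hm L (smulT V (hr r hV)) p).hom ((Hm L (smulT V (hr s hV)) p).hom x)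
    have h1 : hr (r * s) hV = hr r hV * hr s hV := map_mul _ _ _
    rw [h1, Hm_congr_apply L (smulT_mul V _ _), Hm_comp_apply]
  map_zero' := by
    ext x
    change (Hm L (smulT V (hr (0 : Γ(S, T)) hV)) p).hom x = 0
    have h1 : hr (0 : Γ(S, T)) hV = 0 := map_zero _
    rw [h1, Hm_congr_apply L (smulT_zero' V), Hm_zero]
    rfl
  map_add' r s := by
    ext x
    change (Hm L (smulT V (hr (r + s) hV)) p).hom x =
      (Hm L (smulT V (hr r hV)) p).hom x + (Hm L (smulT V (hr s hV)) p).hom x
    have h1 : hr (r + s) hV = hr r hV + hr s hV := map_add _ _ _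
    rw [h1, Hm_congr_apply L (smulT_add V _ _), Hm_add]
    rfl

variable (T)

/-- `H^p(V, L)` for `V ≤ T`, as a `Γ(S, T)`-module -/
def PT (V : {V : S.Opens // V ≤ T}) : Type u :=
  ((GC L (secF V.1)).homology p : AddCommGrpCat.{u})

noncomputable instance (V : {V : S.Opens // V ≤ T}) : AddCommGroup (PT L p T V) :=
  inferInstanceAs (AddCommGroup ((GC L (secF V.1)).homology p : AddCommGrpCat.{u}))

/-- the module structure -/
@[instance_reducible]
noncomputable def modPH {V : S.Opens} (hV : V ≤ T) :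
    Module Γ(S, T) ((GC L (secF V)).homology p : AddCommGrpCat.{u}) :=
  Module.compHom _ (actHom L p hV)

noncomputable instance (V : {V : S.Opens // V ≤ T}) : Module Γ(S, T) (PT L p T V) :=
  modPH L p T V.2

lemma PT_smul (V : {V : S.Opens // V ≤ T}) (r : Γ(S, T)) (a : PT L p T V) :
    r • a = φH L r V.2 p a := rfl

/-- restriction as a linear map -/
noncomputable def resLin (V V' : {V : S.Opens // V ≤ T}) (h : V'.1 ≤ V.1) :
    PT L p T V →ₗ[Γ(S, T)] PT L p T V' where
  toFun := ρH L h p
  map_add' := map_add _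
  map_smul' r a := ρH_φH L r V.2 h p a

lemma resLin_apply (V V' : {V : S.Opens // V ≤ T}) (h : V'.1 ≤ V.1) (a : PT L p T V) :
    resLin L p T V V' h a = ρH L h p a := rfl

end Act

lemma ρH_ρH {V V' V'' : S.Opens} (h : V' ≤ V) (h' : V'' ≤ V') (x : (GC L (secF V)).homology p) :
    ρH L h' p (ρH L h p x) = ρH L (h'.trans h) p x := by
  change (Hm L (resT h') p).hom ((Hm L (resT h) p).hom x) = (Hm L (resT (h'.trans h)) p).hom x
  rw [← Hm_comp_apply, Hm_congr_apply L (resT_comp h h')]

/-- the comparison commutes with restriction -/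
lemma kap_ρH {V V' : S.Opens} (h : V' ≤ V) (x : (GC L (secF V)).homology p) :
    (kap L (secF V') p).hom (ρH L h p x) = rs (L.homology p) h ((kap L (secF V) p).hom x) :=
  (kap_naturality_apply L (resT h) p x).symm

/-- the comparison commutes with scalar multiplication -/
lemma kap_smul {V : S.Opens} (r : Γ(S, V)) (x : (GC L (secF V)).homology p) :
    (kap L (secF V) p).hom ((Hm L (smulT V r) p).hom x) =
      r • (show Γ(L.homology p, V) from (kap L (secF V) p).hom x) :=
  (kap_naturality_apply L (smulT V r) p x).symm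

lemma kap_smul_iterate {V : S.Opens} (r : Γ(S, V)) (n : ℕ) (x : (GC L (secF V)).homology p) :
    (kap L (secF V) p).hom ((Hm L (smulT V r) p).hom^[n] x) =
      r ^ n • (show Γ(L.homology p, V) from (kap L (secF V) p).hom x) := by
  induction n generalizing x with
  | zero => simp
  | succ n ih =>
    rw [Function.iterate_succ_apply', kap_smul, ih, pow_succ', mul_smul]

/-- a cover of an affine open by basic opens gives generators of the unit ideal -/
lemma span_eq_top_of_cover {T : S.Opens} (hT : IsAffineOpen T) (g : T → Γ(S, T))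
    (hg : ∀ x : T, (x : S) ∈ S.basicOpen (g x)) : Ideal.span (Set.range g) = ⊤ := by
  rw [← hT.self_le_iSup_basicOpen_iff]
  intro x hx
  rw [Opens.mem_iSup]
  exact ⟨⟨g ⟨x, hx⟩, ⟨x, hx⟩, rfl⟩, hg ⟨x, hx⟩⟩

/-- **Injectivity** of the comparison over affine opens. -/
theorem kap_injective_of_isAffineOpen (hL : HL L p) {T : S.Opens} (hT : IsAffineOpen T) :
    Function.Injective (kap L (secF T) p).hom := by
  rw [injective_iff_map_eq_zero]
  intro t ht
  have key : ∀ x : T, ∃ g : Γ(S, T), (x : S) ∈ S.basicOpen g ∧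
      ∃ n : ℕ, (φH L g (le_refl T) p)^[n] t = 0 := by
    intro x
    obtain ⟨W, hWT, hxW, hW⟩ := kap_locally_injective L p T t ht x.1 x.2
    obtain ⟨g, hgW, hxg⟩ := hT.exists_basicOpen_le ⟨x.1, hxW⟩ x.2
    refine ⟨g, hxg, (hL T hT g).ker t ?_⟩
    rw [← ρH_ρH L p hWT hgW t]
    change ρH L hgW p ((Hm L (resT hWT) p).hom t) = 0
    rw [hW, map_zero]
  choose g hxg n hn using key
  have hspan := span_eq_top_of_cover hT g hxg
  refine eq_zero_of_cover (R := Γ(S, T)) (A := PT L p T ⟨T, le_refl T⟩) g hspan t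
    (fun x => ⟨n x, ?_⟩)
  rw [← smulHom_iterate]
  exact hn x

/-- **Surjectivity** of the comparison over affine opens. -/
theorem kap_surjective_of_isAffineOpen (hL : HL L p) {T : S.Opens} (hT : IsAffineOpen T) :
    Function.Surjective (kap L (secF T) p).hom := by
  classical
  intro y
  have key : ∀ x : T, ∃ g : Γ(S, T), (x : S) ∈ S.basicOpen g ∧
      ∃ t : (GC L (secF (S.basicOpen g))).homology p,
        (kap L (secF (S.basicOpen g)) p).hom t = rs (L.homology p) (S.basicOpen_le g) y := by
    intro x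
    obtain ⟨W, hWT, hxW, t, ht⟩ := kap_locally_surjective L p T y x.1 x.2
    obtain ⟨g, hgW, hxg⟩ := hT.exists_basicOpen_le ⟨x.1, hxW⟩ x.2
    refine ⟨g, hxg, ρH L hgW p t, ?_⟩
    rw [kap_ρH, ht, rs_rs]
  choose g hxg t ht using key
  have hspan := span_eq_top_of_cover hT g hxg
  obtain ⟨s', hs', hs'span⟩ := (Ideal.span_eq_top_iff_finite _).1 hspan
  have hx : ∀ i : s', ∃ x : T, g x = i.1 := fun i => hs' i.2
  choose xi hxi using hx
  let G : s' → Γ(S, T) := fun i => g (xi i)
  have hG : Ideal.span (Set.range G) = ⊤ := by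
    have : Set.range G = (s' : Set Γ(S, T)) := by
      ext r
      constructor
      · rintro ⟨i, rfl⟩
        change g (xi i) ∈ (s' : Set Γ(S, T))
        rw [hxi i]
        exact i.2
      · intro hr'
        exact ⟨⟨r, hr'⟩, hxi ⟨r, hr'⟩⟩
    rw [this]
    exact hs'span
  have hmulL : ∀ i j : s', S.basicOpen (G i * G j) ≤ S.basicOpen (G i) := fun i j => by
    rw [Scheme.basicOpen_mul]
    exact inf_le_left
  have hmulR : ∀ i j : s', S.basicOpen (G i * G j) ≤ S.basicOpen (G j) := fun i j => by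
    rw [Scheme.basicOpen_mul]
    exact inf_le_right
  obtain ⟨a, ha⟩ := exists_glue (R := Γ(S, T)) (A := PT L p T ⟨T, le_refl T⟩)
    (B := fun i : s' => PT L p T ⟨S.basicOpen (G i), S.basicOpen_le _⟩)
    (C := fun i j : s' => PT L p T ⟨S.basicOpen (G i * G j), S.basicOpen_le _⟩)
    G hG
    (fun i => resLin L p T ⟨T, le_refl T⟩ ⟨S.basicOpen (G i), S.basicOpen_le _⟩
      (S.basicOpen_le _))
    (fun i j => resLin L p T ⟨S.basicOpen (G i), S.basicOpen_le _⟩
      ⟨S.basicOpen (G i * G j), S.basicOpen_le _⟩ (hmulL i j))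
    (fun i j => resLin L p T ⟨S.basicOpen (G j), S.basicOpen_le _⟩
      ⟨S.basicOpen (G i * G j), S.basicOpen_le _⟩ (hmulR i j))
    (fun i j a => by
      rw [resLin_apply, resLin_apply, resLin_apply, resLin_apply, ρH_ρH, ρH_ρH])
    (fun i => hL T hT (G i))
    (fun i j a h0 => by
      rw [resLin_apply, resLin_apply, ρH_ρH] at h0
      obtain ⟨n, hn⟩ := (hL T hT (G i * G j)).ker a h0
      refine ⟨n, ?_⟩
      rw [← smulHom_iterate]
      exact hn)
    (fun i => t (xi i))
    (fun i j => by
      rw [resLin_apply, resLin_apply]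
      apply kap_injective_of_isAffineOpen L p hL (hT.basicOpen (G i * G j))
      rw [kap_ρH, kap_ρH, ht, ht, rs_rs, rs_rs])
  refine ⟨a, ?_⟩
  let F : TopCat.Sheaf AddCommGrpCat.{u} S.toTopCat :=
    ⟨(L.homology p).presheaf, (L.homology p).isSheaf⟩
  have hcover : T ≤ ⨆ i : s', S.basicOpen (G i) := by
    have h1 := (hT.self_le_iSup_basicOpen_iff (s := Set.range G)).2 hG
    refine h1.trans (iSup_le ?_)
    rintro ⟨_, i, rfl⟩
    exact le_iSup (fun i : s' => S.basicOpen (G i)) i
  refine TopCat.Sheaf.eq_of_locally_eq' F (fun i : s' => S.basicOpen (G i)) T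
    (fun i => homOfLE (S.basicOpen_le (G i))) hcover _ _ (fun i => ?_)
  have h2 := ha i
  rw [resLin_apply] at h2
  have h3 := kap_ρH L p (S.basicOpen_le (G i)) a
  rw [h2, ht] at h3
  exact h3.symm

theorem kap_bijective_of_isAffineOpen (hL : HL L p) {T : S.Opens} (hT : IsAffineOpen T) :
    Function.Bijective (kap L (secF T) p).hom :=
  ⟨kap_injective_of_isAffineOpen L p hL hT, kap_surjective_of_isAffineOpen L p hL hT⟩

end Groth.Agent.Lib.Helper1.QcqsLoc
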