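import Groth.Agent.Lib.Helper1.QcqsLoc.Step

/-!
# The Mayer–Vietoris step: `PrLoc U`, `PrLoc V`, `PrLoc (U ⊓ V)` imply `PrLoc (U ⊔ V)` (helper1)
-/

set_option autoImplicit false
universe u
open CategoryTheory CategoryTheory.Limits AlgebraicGeometry TopologicalSpace Opposite

namespace Groth.Agent.Lib.Helper1.QcqsLoc

open Groth.Agent.Lib.Helper1.CohLoc

variable {X : Scheme.{u}} (K : CochainComplex X.Modules ℕ) {W₀ : X.Opens} (h : Γ(X, W₀))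

theorem prLoc_sup (hK : ∀ n, MVGood (K.X n)) (U V : X.Opens) (hU : PrLoc K h U)
    (hV : PrLoc K h V) (hUV : PrLoc K h (U ⊓ V)) : PrLoc K h (U ⊔ V) := by
  intro hW p
  -- the opens
  have hUW₀ : U ≤ W₀ := le_sup_left.trans hW
  have hVW₀ : V ≤ W₀ := le_sup_right.trans hW
  have hZW₀ : U ⊓ V ≤ W₀ := inf_le_left.trans hUW₀
  obtain ⟨D, hD⟩ : ∃ D : X.Opens, D = X.basicOpen h := ⟨_, rfl⟩
  have hUW : U ≤ U ⊔ V := le_sup_left
  have hVW : V ≤ U ⊔ V := le_sup_right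
  have hZU : U ⊓ V ≤ U := inf_le_left
  have hZV : U ⊓ V ≤ V := inf_le_right
  have hU'W' : U ⊓ X.basicOpen h ≤ (U ⊔ V) ⊓ X.basicOpen h := inf_le_inf_right _ le_sup_left
  have hV'W' : V ⊓ X.basicOpen h ≤ (U ⊔ V) ⊓ X.basicOpen h := inf_le_inf_right _ le_sup_right
  have hZ'U' : (U ⊓ V) ⊓ X.basicOpen h ≤ U ⊓ X.basicOpen h := inf_le_inf_right _ inf_le_left
  have hZ'V' : (U ⊓ V) ⊓ X.basicOpen h ≤ V ⊓ X.basicOpen h := inf_le_inf_right _ inf_le_right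
  have hWW : (U ⊔ V) ⊓ X.basicOpen h ≤ U ⊔ V := inf_le_left
  have hUU : U ⊓ X.basicOpen h ≤ U := inf_le_left
  have hVV : V ⊓ X.basicOpen h ≤ V := inf_le_left
  have hZZ : (U ⊓ V) ⊓ X.basicOpen h ≤ U ⊓ V := inf_le_left
  -- exactness
  have hE : ExactOn K (mvα hUW hVW) (mvβ hZU hZV) (mvα_mvβ hUW hVW hZU hZV) := fun n =>
    mv_shortExact hUW hVW hZU hZV (K.X n) (hK n) le_rfl le_rfl
  have hE' : ExactOn K (mvα hU'W' hV'W') (mvβ hZ'U' hZ'V') (mvα_mvβ hU'W' hV'W' hZ'U' hZ'V') :=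
    fun n => mv_shortExact hU'W' hV'W' hZ'U' hZ'V' (K.X n) (hK n)
      (le_of_eq (inf_sup_right _ _ _))
      (le_inf (inf_le_inf inf_le_left inf_le_left) (inf_le_left.trans inf_le_right))
  -- squares of natural transformations
  have cα : mvα hUW hVW ≫ prodRes hUU hVV = resT hWW ≫ mvα hU'W' hV'W' :=
    mvα_prodRes hUW hVW hU'W' hV'W' hWW hUU hVV
  have cβ : mvβ hZU hZV ≫ resT hZZ = prodRes hUU hVV ≫ mvβ hZ'U' hZ'V' :=
    mvβ_resT hZU hZV hZ'U' hZ'V' hUU hVV hZZ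
  have sα : mvα hUW hVW ≫ prodSmul (hr h hUW₀) (hr h hVW₀) =
      smulT (U ⊔ V) (hr h hW) ≫ mvα hUW hVW := by
    have := mvα_prodSmul hUW hVW (hr h hW)
    rwa [hr_res, hr_res] at this
  have sβ : mvβ hZU hZV ≫ smulT (U ⊓ V) (hr h hZW₀) =
      prodSmul (hr h hUW₀) (hr h hVW₀) ≫ mvβ hZU hZV :=
    mvβ_smulT hZU hZV _ _ _ (hr_res h hUW₀ hZU) (hr_res h hVW₀ hZV)
  have sα' : mvα hU'W' hV'W' ≫ prodSmul (hr h (hUU.trans hUW₀)) (hr h (hVV.trans hVW₀)) =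
      smulT ((U ⊔ V) ⊓ X.basicOpen h) (hr h (hWW.trans hW)) ≫ mvα hU'W' hV'W' := by
    have := mvα_prodSmul hU'W' hV'W' (hr h (hWW.trans hW))
    rwa [hr_res, hr_res] at this
  have sβ' : mvβ hZ'U' hZ'V' ≫ smulT ((U ⊓ V) ⊓ X.basicOpen h) (hr h (hZZ.trans hZW₀)) =
      prodSmul (hr h (hUU.trans hUW₀)) (hr h (hVV.trans hVW₀)) ≫ mvβ hZ'U' hZ'V' :=
    mvβ_smulT hZ'U' hZ'V' _ _ _ (hr_res h (hUU.trans hUW₀) hZ'U')
      (hr_res h (hVV.trans hVW₀) hZ'V')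
  -- elementwise consequences, in each degree
  have e_αβ_res : ∀ (q : ℕ) x, (Hm K (prodRes hUU hVV) q).hom ((Hm K (mvα hUW hVW) q).hom x) =
      (Hm K (mvα hU'W' hV'W') q).hom ((Hm K (resT hWW) q).hom x) := fun q x => by
    rw [← Hm_comp_apply, ← Hm_comp_apply, Hm_congr_apply K cα]
  have e_β_res : ∀ (q : ℕ) x, (Hm K (resT hZZ) q).hom ((Hm K (mvβ hZU hZV) q).hom x) =
      (Hm K (mvβ hZ'U' hZ'V') q).hom ((Hm K (prodRes hUU hVV) q).hom x) := fun q x => by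
    rw [← Hm_comp_apply, ← Hm_comp_apply, Hm_congr_apply K cβ]
  have e_α_smul : ∀ (q : ℕ) x, (Hm K (mvα hUW hVW) q).hom ((Hm K (smulT _ (hr h hW)) q).hom x) =
      (Hm K (prodSmul (hr h hUW₀) (hr h hVW₀)) q).hom ((Hm K (mvα hUW hVW) q).hom x) :=
    fun q x => by
      rw [← Hm_comp_apply, ← Hm_comp_apply, Hm_congr_apply K sα]
  have e_β_smul : ∀ (q : ℕ) x,
      (Hm K (mvβ hZU hZV) q).hom ((Hm K (prodSmul (hr h hUW₀) (hr h hVW₀)) q).hom x) =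
      (Hm K (smulT _ (hr h hZW₀)) q).hom ((Hm K (mvβ hZU hZV) q).hom x) := fun q x => by
    rw [← Hm_comp_apply, ← Hm_comp_apply, Hm_congr_apply K sβ]
  have e_α_smul' : ∀ (q : ℕ) x,
      (Hm K (mvα hU'W' hV'W') q).hom ((Hm K (smulT _ (hr h (hWW.trans hW))) q).hom x) =
      (Hm K (prodSmul (hr h (hUU.trans hUW₀)) (hr h (hVV.trans hVW₀))) q).hom
        ((Hm K (mvα hU'W' hV'W') q).hom x) := fun q x => by
    rw [← Hm_comp_apply, ← Hm_comp_apply, Hm_congr_apply K sα']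
  have e_β_smul' : ∀ (q : ℕ) x,
      (Hm K (mvβ hZ'U' hZ'V') q).hom
        ((Hm K (prodSmul (hr h (hUU.trans hUW₀)) (hr h (hVV.trans hVW₀))) q).hom x) =
      (Hm K (smulT _ (hr h (hZZ.trans hZW₀))) q).hom ((Hm K (mvβ hZ'U' hZ'V') q).hom x) :=
    fun q x => by
      rw [← Hm_comp_apply, ← Hm_comp_apply, Hm_congr_apply K sβ']
  have hP : ∀ q : ℕ, IsLoc (Hm K (prodSmul (hr h hUW₀) (hr h hVW₀)) q).hom
      (Hm K (prodSmul (hr h (hUU.trans hUW₀)) (hr h (hVV.trans hVW₀))) q).hom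
      (Hm K (prodRes hUU hVV) q).hom := fun q =>
    isLoc_prod K h hUW₀ hVW₀ hUU hVV q (hU hUW₀ q) (hV hVW₀ q)
  have hZ : ∀ q : ℕ, IsLoc (φH K h hZW₀ q) (φH K h (hZZ.trans hZW₀) q) (ρH K hZZ q) :=
    fun q => hUV hZW₀ q
  have c₃ : ∀ x, ρH K hWW p (φH K h hW p x) = φH K h (hWW.trans hW) p (ρH K hWW p x) :=
    fun x => ρH_φH K h hW hWW p x
  cases p with
  | zero =>
    have hinj : Function.Injective (Hm K (mvα hUW hVW) 0).hom :=
      Hm_zero_injective K _ ((AddCommGrpCat.mono_iff_injective _).1 (hE 0).mono_f)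
    have hinj' : Function.Injective (Hm K (mvα hU'W' hV'W') 0).hom :=
      Hm_zero_injective K _ ((AddCommGrpCat.mono_iff_injective _).1 (hE' 0).mono_f)
    exact isLoc_five (A₁ := PUnit.{u + 1}) (A₂ := PUnit.{u + 1}) (B₁ := PUnit.{u + 1})
      (B₂ := PUnit.{u + 1})
      0 0 (Hm K (mvα hUW hVW) 0).hom (Hm K (mvβ hZU hZV) 0).hom
      0 0 (Hm K (mvα hU'W' hV'W') 0).hom (Hm K (mvβ hZ'U' hZ'V') 0).hom
      0 0 (φH K h hW 0) (Hm K (prodSmul (hr h hUW₀) (hr h hVW₀)) 0).hom (φH K h hZW₀ 0)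
      0 0 (φH K h (hWW.trans hW) 0)
      (Hm K (prodSmul (hr h (hUU.trans hUW₀)) (hr h (hVV.trans hVW₀))) 0).hom
      (φH K h (hZZ.trans hZW₀) 0)
      0 0 (ρH K hWW 0) (Hm K (prodRes hUU hVV) 0).hom (ρH K hZZ 0)
      (fun _ => rfl)
      (fun x hx => ⟨0, (hinj (hx.trans (map_zero _).symm)).symm⟩)
      (fun x hx => les_exact₂ K hE 0 x hx)
      (fun _ => rfl)
      (fun x => Hm_α_β K (w := mvα_mvβ hU'W' hV'W' hZ'U' hZ'V') 0 x)
      (fun x _ => ⟨0, Subsingleton.elim _ _⟩)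
      (fun x hx => ⟨0, (hinj' (hx.trans (map_zero _).symm)).symm⟩)
      (fun x hx => les_exact₂ K hE' 0 x hx)
      (fun _ => rfl) (fun _ => (map_zero _).symm) (e_α_smul 0) (e_β_smul 0)
      (fun _ => rfl) (fun _ => (map_zero _).symm) (e_α_smul' 0) (e_β_smul' 0)
      (fun _ => rfl) (fun _ => (map_zero _)) (e_αβ_res 0) (e_β_res 0)
      (isLoc_of_subsingleton _ _ _) (isLoc_of_subsingleton _ _ _) (hP 0) (hZ 0) c₃
  | succ q =>
    exact isLoc_five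
      (Hm K (mvβ hZU hZV) q).hom (lesδ K hE q).hom (Hm K (mvα hUW hVW) (q + 1)).hom
      (Hm K (mvβ hZU hZV) (q + 1)).hom
      (Hm K (mvβ hZ'U' hZ'V') q).hom (lesδ K hE' q).hom (Hm K (mvα hU'W' hV'W') (q + 1)).hom
      (Hm K (mvβ hZ'U' hZ'V') (q + 1)).hom
      (Hm K (prodSmul (hr h hUW₀) (hr h hVW₀)) q).hom (φH K h hZW₀ q) (φH K h hW (q + 1))
      (Hm K (prodSmul (hr h hUW₀) (hr h hVW₀)) (q + 1)).hom (φH K h hZW₀ (q + 1))
      (Hm K (prodSmul (hr h (hUU.trans hUW₀)) (hr h (hVV.trans hVW₀))) q).hom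
      (φH K h (hZZ.trans hZW₀) q) (φH K h (hWW.trans hW) (q + 1))
      (Hm K (prodSmul (hr h (hUU.trans hUW₀)) (hr h (hVV.trans hVW₀))) (q + 1)).hom
      (φH K h (hZZ.trans hZW₀) (q + 1))
      (Hm K (prodRes hUU hVV) q).hom (ρH K hZZ q) (ρH K hWW (q + 1))
      (Hm K (prodRes hUU hVV) (q + 1)).hom (ρH K hZZ (q + 1))
      (fun x => comp_lesδ K hE q x)
      (fun x hx => les_exact₁ K hE q x hx)
      (fun x hx => les_exact₂ K hE (q + 1) x hx)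
      (fun x => comp_lesδ K hE' q x)
      (fun x => Hm_α_β K (w := mvα_mvβ hU'W' hV'W' hZ'U' hZ'V') (q + 1) x)
      (fun x hx => les_exact₃ K hE' q x hx)
      (fun x hx => les_exact₁ K hE' q x hx)
      (fun x hx => les_exact₂ K hE' (q + 1) x hx)
      (e_β_smul q)
      (fun x => (lesδ_naturality K hE hE _ _ _ sα sβ q x).symm)
      (e_α_smul (q + 1)) (e_β_smul (q + 1))
      (e_β_smul' q)
      (fun x => (lesδ_naturality K hE' hE' _ _ _ sα' sβ' q x).symm)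
      (e_α_smul' (q + 1)) (e_β_smul' (q + 1))
      (e_β_res q)
      (fun x => lesδ_naturality K hE hE' _ _ _ cα cβ q x)
      (e_αβ_res (q + 1)) (e_β_res (q + 1))
      (hP q) (hZ q) (hP (q + 1)) (hZ (q + 1)) c₃

end Groth.Agent.Lib.Helper1.QcqsLoc
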