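import Groth.Agent.Lib.Helper1.QcqsLoc.ExtModel
import Groth.Agent.Lib.Helper1.QcqsLoc.EdgeZero

/-!
# The explicit comparison maps `θ : H^p(f⁻¹V, F) → Γ(V, R^p f_* F)` (helper1)
-/

set_option autoImplicit false
universe u
open CategoryTheory CategoryTheory.Limits AlgebraicGeometry TopologicalSpace Opposite
  HomologicalComplex

namespace Groth.Agent.Lib.Helper1.QcqsLoc

open Groth.Agent.Lib.Helper33.ExtDelta Groth.Agent.Lib.Helper83

variable {X : Scheme.{u}} (U : X.Opens) [HasInjectiveResolutions X.Modules]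

/-- degree-zero comparison between the two models -/
noncomputable def e₀ : (TX U).F 0 ≅ (UX U).F 0 :=
  (sectIso U).symm ≪≫ (secF U).rightDerivedZeroIsoSelf.symm

theorem existsUnique_phi : ∃! φ : TX U ≅ UX U, φ.hom.app 0 = (e₀ U).hom :=
  Groth.Agent.S6774.result _ _ (TX_isUniversal U) (UX_isUniversal U) (e₀ U)

/-- the isomorphism of delta-functors between the Ext model and the derived-functor model -/
noncomputable def phi : TX U ≅ UX U := (existsUnique_phi U).exists.choose

lemma phi_zero : (phi U).hom.app 0 = (e₀ U).hom := (existsUnique_phi U).exists.choose_spec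

lemma phi_zero_sectH0 (F : X.Modules) (s : F.presheaf.obj (op U)) :
    (((phi U).hom.app 0).app F).hom (CohPull.sectH0 F U s) =
      ((secF U).toRightDerivedZero.app F).hom s := by
  rw [phi_zero]
  change ((secF U).toRightDerivedZero.app F).hom
    ((CohPull.sectH0 F U).symm (CohPull.sectH0 F U s)) = _
  rw [AddEquiv.symm_apply_apply]

variable {S : Scheme.{u}} (f : X ⟶ S) (V : S.Opens)

/-- **the explicit comparison map** -/
noncomputable def theta (F : X.Modules) (p : ℕ) :
    Coh.HHon X F (f ⁻¹ᵁ V) p →+ ((Coh.Rpush f p).obj F).presheaf.obj (op V) :=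
  ((((phi (f ⁻¹ᵁ V)).hom.app p).app F) ≫ edge f V F p).hom

lemma theta_apply (F : X.Modules) (p : ℕ) (x : Coh.HHon X F (f ⁻¹ᵁ V) p) :
    theta f V F p x = (edge f V F p).hom ((((phi (f ⁻¹ᵁ V)).hom.app p).app F).hom x) := rfl

theorem theta_zero (F : X.Modules) (s : F.presheaf.obj (op (f ⁻¹ᵁ V))) :
    theta f V F 0 (CohPull.sectH0 F (f ⁻¹ᵁ V) s) =
      ((Scheme.Modules.pushforward f).toRightDerivedZero.app F).app V s := by
  rw [theta_apply, phi_zero_sectH0]
  exact ConcreteCategory.congr_hom (edge_zero f V F) s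

theorem theta_delta (Δ : RDer.DerivedLES (Scheme.Modules.pushforward f))
    (Sx : ShortComplex X.Modules) (hS : Sx.ShortExact)
    (hA : (Sx.map (CohCmp.toAbOn X (f ⁻¹ᵁ V))).ShortExact) (p : ℕ)
    (x : Coh.HHon X Sx.X₃ (f ⁻¹ᵁ V) p) :
    theta f V Sx.X₁ (p + 1) (CohCmp.extδ hA p x) =
      (Δ.δ Sx hS p (p + 1) rfl).app V (theta f V Sx.X₃ p x) := by
  have h1 := (phi (f ⁻¹ᵁ V)).hom.comm Sx hS p (p + 1) rfl
  have h2 := edge_delta f V (derivedLES (secF (f ⁻¹ᵁ V))) Δ Sx hS p
  have h1' := ConcreteCategory.congr_hom h1 x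
  have h2' := ConcreteCategory.congr_hom h2 ((((phi (f ⁻¹ᵁ V)).hom.app p).app Sx.X₃).hom x)
  rw [theta_apply, theta_apply]
  refine Eq.trans ?_ h2'
  exact congrArg (edge f V Sx.X₁ (p + 1)).hom h1'

end Groth.Agent.Lib.Helper1.QcqsLoc
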