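import Groth.Agent.Lib.Helper1.QcqsLoc.Theta

/-!
# Uniqueness of the comparison maps: every `CohCmp.SectCmp` is `theta` (helper1)
-/

set_option autoImplicit false
universe u
open CategoryTheory CategoryTheory.Limits AlgebraicGeometry TopologicalSpace Opposite
  HomologicalComplex

namespace Groth.Agent.Lib.Helper1.QcqsLoc

open Groth.Agent.Lib.Lead Groth.Agent.Lib.Lead.SectCmp

variable {X S : Scheme.{u}} (f : X ⟶ S) [HasInjectiveResolutions X.Modules] (V : S.Opens)

/-- **uniqueness**: the comparison maps of any `SectCmp` structure are the explicit maps -/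
theorem eps_eq_theta {Δ : RDer.DerivedLES (Scheme.Modules.pushforward f)}
    (E : CohCmp.SectCmp f Δ) (p : ℕ) :
    ∀ (F : X.Modules) (x : Coh.HHon X F (f ⁻¹ᵁ V) p), E.ε V F p x = theta f V F p x := by
  induction p with
  | zero =>
    intro F x
    obtain ⟨s, rfl⟩ := (CohPull.sectH0 F (f ⁻¹ᵁ V)).surjective x
    rw [E.zero, theta_zero]
  | succ p ih =>
    intro F x
    have hS : (ExtAdj.sesInj F).ShortExact := ExtAdj.sesInj_shortExact F
    have hA := toAbOn_shortExact (f ⁻¹ᵁ V) hS
    have hsub : Subsingleton (Coh.HHon X (ExtAdj.sesInj F).X₂ (f ⁻¹ᵁ V) (p + 1)) :=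
      subsingleton_HHon_of_injective _ _ p
    obtain ⟨y, rfl⟩ : ∃ y, CohCmp.extδ hA p y = x :=
      Abelian.Ext.covariant_sequence_exact₁ _ hA x (@Subsingleton.elim _ hsub _ _) rfl
    have h1 := E.delta V _ hS hA p y
    have h2 := theta_delta f V Δ _ hS hA p y
    exact h1.trans ((congrArg _ (ih _ y)).trans h2.symm)

open Groth.Agent.Lib.Helper33.ExtDelta in
/-- the explicit comparison map over an affine open is bijective for `f` qcqs and `F`
quasi-coherent -/
theorem theta_bijective [QuasiCompact f] [QuasiSeparated f] (F : X.Modules)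
    [F.IsQuasicoherent] (hV : IsAffineOpen V) (q : ℕ) :
    Function.Bijective (theta f V F q) := by
  have h1 : Function.Bijective ((((phi (f ⁻¹ᵁ V)).hom.app q).app F).hom) := by
    have : IsIso (((phi (f ⁻¹ᵁ V)).hom.app q).app F) :=
      ((isoApp (phi (f ⁻¹ᵁ V)) q).app F).isIso_hom
    exact (ConcreteCategory.isIso_iff_bijective _).1 this
  have hk := kap_bijective_of_isAffineOpen (pushC f (injectiveResolution F).cocomplex) q
    (hl_pushC f F (injectiveResolution F) q) hV
  have h2 : Function.Bijective (edge f V F q).hom := by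
    have ha : IsIso (((injectiveResolution F).isoRightDerivedObj (secF (f ⁻¹ᵁ V)) q).hom) :=
      inferInstance
    have hb : IsIso ((secF V).map
        ((injectiveResolution F).isoRightDerivedObj (Scheme.Modules.pushforward f) q).inv) :=
      inferInstance
    have ha' := (ConcreteCategory.isIso_iff_bijective _).1 ha
    have hb' := (ConcreteCategory.isIso_iff_bijective _).1 hb
    exact hb'.comp (hk.comp ha')
  exact h2.comp h1

/-- **the comparison maps of any `SectCmp` structure are bijective over affine opens**, for `f`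
qcqs and `F` quasi-coherent -/
theorem eps_bijective [QuasiCompact f] [QuasiSeparated f]
    {Δ : RDer.DerivedLES (Scheme.Modules.pushforward f)} (E : CohCmp.SectCmp f Δ)
    (F : X.Modules) [F.IsQuasicoherent] (hV : IsAffineOpen V) (q : ℕ) :
    Function.Bijective (E.ε V F q) := by
  have h : ⇑(E.ε V F q) = ⇑(theta f V F q) := funext (eps_eq_theta f V E q F)
  rw [h]
  exact theta_bijective f V F hV q

end Groth.Agent.Lib.Helper1.QcqsLoc
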